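import Groth.Agent.PerfLib.Derived
import Groth.Agent.DerLib.ExactHomology
import Groth.Agent.QCohLib.FTCrit
import Groth.Agent.DevissLib.ClosedImm
import Groth.Agent.KHeartLib.CohSupp

/-!
# Cohomology of perfect objects on Noetherian schemes
-/

set_option autoImplicit false
set_option linter.style.haveILetI false

universe u

open CategoryTheory CategoryTheory.Limits AlgebraicGeometry Opposite TopologicalSpace
open HomologicalComplex

attribute [local instance] HasDerivedCategory.standard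

namespace Groth.Agent.PerfLib

variable {X V : Scheme.{u}}

theorem isCoh_of_cover (M : X.Modules) {ι : Type u} (U : ι → X.Opens) (hU : ⨆ i, U i = ⊤)
    (h : ∀ i, Coh.IsCoh (M.restrict (U i).ι)) : Coh.IsCoh M :=
  ⟨QCohLib.isQCoh_of_cover M U hU fun i => (h i).1, QCohLib.isFT_of_cover M U hU fun i => (h i).2⟩

/-- `freeMod (n+1) ≅ O ⊞ freeMod n`. -/
noncomputable def freeModSucc' (X : Scheme.{u}) (n : ℕ) :
    FlatMod.freeMod X (n + 1) ≅ Coh.structureModule X ⊞ FlatMod.freeMod X n where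
  hom := Sigma.desc fun i => Fin.cases (motive := fun _ => Coh.structureModule X ⟶
      Coh.structureModule X ⊞ FlatMod.freeMod X n) biprod.inl
    (fun j => Sigma.ι (fun _ : Fin n => Coh.structureModule X) j ≫ biprod.inr) i
  inv := biprod.desc (Sigma.ι (fun _ : Fin (n + 1) => Coh.structureModule X) 0)
    (Sigma.desc fun j => Sigma.ι (fun _ : Fin (n + 1) => Coh.structureModule X) j.succ)
  hom_inv_id := Sigma.hom_ext _ _ fun i => by
    refine Fin.cases ?_ (fun j => ?_) i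
    · rw [Sigma.ι_desc_assoc, Fin.cases_zero, biprod.inl_desc, Category.comp_id]
    · rw [Sigma.ι_desc_assoc, Fin.cases_succ, Category.assoc, biprod.inr_desc, Sigma.ι_desc,
        Category.comp_id]
  inv_hom_id := by
    apply biprod.hom_ext'
    · rw [biprod.inl_desc_assoc, Sigma.ι_desc, Fin.cases_zero, Category.comp_id]
    · refine Sigma.hom_ext _ _ fun j => ?_
      rw [biprod.inr_desc_assoc, Sigma.ι_desc_assoc, Sigma.ι_desc, Fin.cases_succ, Category.comp_id]

theorem isFT_freeModule (X : Scheme.{u}) (n : ℕ) : CohB1.IsFT (FlatMod.freeMod X n) := by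
  induction n with
  | zero =>
    refine QCohLib.isFT_of_isZero ?_
    rw [IsZero.iff_id_eq_zero]
    exact Sigma.hom_ext _ _ fun i => i.elim0
  | succ n ih =>
    exact QCohLib.isFT_of_iso (freeModSucc' X n).symm
      (QCohLib.isFT_biprod (DevissLib.isCoh_structureModule X).2 ih)

theorem isCoh_of_isFinLocFree {M : X.Modules} (h : FlatMod.IsFinLocFree M) : Coh.IsCoh M := by
  choose U n hU e using h
  refine isCoh_of_cover M U (eq_top_iff.2 fun p _ => Opens.mem_iSup.2 ⟨p, hU p⟩) fun p => ?_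
  haveI : Coh.IsQCoh (FlatMod.freeMod (↑(U p) : Scheme.{u}) (n p)) :=
    QCohLib.isQCoh_of_isColimit (fun _ => inferInstance) (fun _ => QCohLib.isQCoh_unit)
      (colimit.isColimit _)
  exact QCohLib.isCoh_of_iso (e p).some.symm ⟨inferInstance, isFT_freeModule _ _⟩

theorem isCoh_homology [IsLocallyNoetherian X] (E : CochainComplex X.Modules ℤ)
    (h : ∀ i, Coh.IsCoh (E.X i)) (i : ℤ) : Coh.IsCoh (E.homology i) := by
  haveI := KHeartLib.isWeakSerre_isCoh (X := X)
  let P : ObjectProperty X.Modules := fun M => Coh.IsCoh M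
  haveI : WSerre.IsWeakSerre P := KHeartLib.isWeakSerre_isCoh (X := X)
  let S := E.sc i
  have hc : P S.cycles := P.prop_of_isLimit_kernelFork S.cyclesIsKernel (h _) (h _)
  exact P.prop_of_isColimit_cokernelCofork S.homologyIsCokernel (h _) hc

/-- Cohomology of the restriction. -/
noncomputable def resHDIso (j : V ⟶ X) [IsOpenImmersion j] (K : DCoh.D X) (i : ℤ) :
    DCoh.HD ((resD j).obj K) i ≅ (res j).obj (DCoh.HD K i) :=
  (Groth.Agent.DerLib.ExactHomology.homologyIso (res j) i).app K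

theorem isZero_of_cover {M : X.Modules} (h : ∀ x : X, ∃ U : X.Opens, x ∈ U ∧ IsZero (M.restrict U.ι)) :
    IsZero M := by
  refine KFlatLib.isZero_of_stalks fun x => ?_
  obtain ⟨U, hx, hz⟩ := h x
  have hz' : IsZero (((Scheme.Modules.toPresheaf _) ⋙
      TopCat.Presheaf.stalkFunctor AddCommGrpCat.{u} (⟨x, hx⟩ : U)).obj (M.restrict U.ι)) :=
    Functor.map_isZero _ hz
  have : Subsingleton (M.presheaf.stalk x) :=
    AddCommGrpCat.subsingleton_of_isZero (hz'.of_iso
      ((Scheme.Modules.restrictStalkNatIso U.ι (⟨x, hx⟩ : U)).app M).symm)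
  exact this

theorem isCohD_and_bounded_of_isPerfect [IsNoetherian X] {K : DCoh.D X} (hK : DCoh.IsPerfect K) :
    DCoh.IsCohD K ∧ ∃ a b : ℤ, K.IsGE a ∧ K.IsLE b := by
  have key : ∀ x : X, ∃ (U : X.Opens) (a b : ℤ), x ∈ U ∧ ∀ i : ℤ,
      Coh.IsCoh ((DCoh.HD K i).restrict U.ι) ∧
        ((i < a ∨ b < i) → IsZero ((DCoh.HD K i).restrict U.ι)) := by
    intro x
    obtain ⟨U, hx, hU⟩ := hK x
    obtain ⟨E, ⟨⟨a, b, hv⟩, hf⟩, ⟨e⟩⟩ := hU _ ⟨DerivedCategory.Q.objObjPreimageIso K⟩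
    have e' : ∀ i, E.homology i ≅ (DCoh.HD K i).restrict U.ι := fun i =>
      ((DerivedCategory.homologyFunctorFactors _ i).app E).symm ≪≫
        (DerivedCategory.homologyFunctor _ i).mapIso (e.symm ≪≫ (resDQIso U.ι _).symm ≪≫
          (resD U.ι).mapIso (DerivedCategory.Q.objObjPreimageIso K)) ≪≫ resHDIso U.ι K i
    haveI : IsLocallyNoetherian (U : Scheme.{u}) := isLocallyNoetherian_of_isOpenImmersion U.ι
    refine ⟨U, a, b, hx, fun i => ⟨QCohLib.isCoh_of_iso (e' i)
      (isCoh_homology E (fun k => isCoh_of_isFinLocFree (hf k)) i), fun hi => ?_⟩⟩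
    exact ((exactAt_iff_isZero_homology E i).1 (ExactAt.of_isZero (hv i hi))).of_iso (e' i).symm
  choose U a b hxU h using key
  refine ⟨fun i => isCoh_of_cover _ U (eq_top_iff.2 fun p _ => Opens.mem_iSup.2 ⟨p, hxU p⟩)
    fun p => (h p i).1, ?_⟩
  obtain ⟨t, ht⟩ := isCompact_univ.elim_finite_subcover (fun p : X => (U p : Set X))
    (fun p => (U p).isOpen) fun p _ => Set.mem_iUnion.2 ⟨p, hxU p⟩
  obtain ⟨a₀, ha₀⟩ : ∃ a₀, ∀ p ∈ t, a₀ ≤ a p := (t.finite_toSet.image a).bddBelow.imp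
    fun a₀ h p hp => h ⟨p, hp, rfl⟩
  obtain ⟨b₀, hb₀⟩ : ∃ b₀, ∀ p ∈ t, b p ≤ b₀ := (t.finite_toSet.image b).bddAbove.imp
    fun b₀ h p hp => h ⟨p, hp, rfl⟩
  have hz : ∀ i : ℤ, (i < a₀ ∨ b₀ < i) → IsZero (DCoh.HD K i) := fun i hi =>
    isZero_of_cover fun x => by
      obtain ⟨p, hpt, hp⟩ := Set.mem_iUnion₂.1 (ht (Set.mem_univ x))
      exact ⟨U p, hp, (h p i).2 (by have := ha₀ p hpt; have := hb₀ p hpt; omega)⟩
  exact ⟨a₀, b₀, (DerivedCategory.isGE_iff K a₀).2 fun i hi => hz i (Or.inl hi),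
    (DerivedCategory.isLE_iff K b₀).2 fun i hi => hz i (Or.inr hi)⟩

end Groth.Agent.PerfLib
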