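import Groth.Agent.PerfLib.LocalLift

/-!
# Restriction along open immersions, for complexes and derived categories
-/

set_option autoImplicit false

universe u

open CategoryTheory CategoryTheory.Limits AlgebraicGeometry TopologicalSpace Opposite
open HomologicalComplex

attribute [local instance] HasDerivedCategory.standard

namespace Groth.Agent.PerfLib

variable {W V X : Scheme.{u}}

/-- Restriction of modules along an open immersion. -/
noncomputable abbrev res (j : V ⟶ X) [IsOpenImmersion j] : X.Modules ⥤ V.Modules :=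
  Scheme.Modules.restrictFunctor j

/-- Restriction of complexes along an open immersion. -/
noncomputable abbrev resC (j : V ⟶ X) [IsOpenImmersion j] :
    CochainComplex X.Modules ℤ ⥤ CochainComplex V.Modules ℤ :=
  (res j).mapHomologicalComplex (ComplexShape.up ℤ)

/-- Restriction in the derived category along an open immersion. -/
noncomputable abbrev resD (j : V ⟶ X) [IsOpenImmersion j] : DCoh.D X ⥤ DCoh.D V :=
  (res j).mapDerivedCategory

/-- Restriction along a composite, on complexes. -/
noncomputable def resCComp (g : W ⟶ V) [IsOpenImmersion g] (j : V ⟶ X) [IsOpenImmersion j] :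
    resC (g ≫ j) ≅ resC j ⋙ resC g :=
  NatIso.mapHomologicalComplex (Scheme.Modules.restrictFunctorComp g j) (ComplexShape.up ℤ)

/-- Restriction along equal maps, on complexes. -/
noncomputable def resCCongr {f g : V ⟶ X} [IsOpenImmersion f] [IsOpenImmersion g] (h : f = g) :
    resC f ≅ resC g :=
  NatIso.mapHomologicalComplex (Scheme.Modules.restrictFunctorCongr h) (ComplexShape.up ℤ)

/-- Restriction in the derived category is computed by representatives. -/
noncomputable def resDQIso (j : V ⟶ X) [IsOpenImmersion j] (F : CochainComplex X.Modules ℤ) :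
    (resD j).obj (DCoh.toD X F) ≅ DCoh.toD V ((resC j).obj F) :=
  ((res j).mapDerivedCategoryFactors).app F

@[reassoc]
theorem resDQIso_naturality (j : V ⟶ X) [IsOpenImmersion j] {F G : CochainComplex X.Modules ℤ}
    (φ : F ⟶ G) :
    (resD j).map (DerivedCategory.Q.map φ) ≫ (resDQIso j G).hom =
      (resDQIso j F).hom ≫ DerivedCategory.Q.map ((resC j).map φ) :=
  ((res j).mapDerivedCategoryFactors).hom.naturality φ

/-- Restriction along a composite, on objects of the derived category. -/
theorem nonempty_resD_comp (g : W ⟶ V) [IsOpenImmersion g] (j : V ⟶ X) [IsOpenImmersion j]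
    (K : DCoh.D X) : Nonempty ((resD (g ≫ j)).obj K ≅ (resD g).obj ((resD j).obj K)) :=
  ⟨(resD (g ≫ j)).mapIso (DerivedCategory.Q.objObjPreimageIso K).symm ≪≫ resDQIso (g ≫ j) _ ≪≫
    DerivedCategory.Q.mapIso ((resCComp g j).app _) ≪≫ (resDQIso g _).symm ≪≫
    (resD g).mapIso ((resDQIso j _).symm ≪≫
      (resD j).mapIso (DerivedCategory.Q.objObjPreimageIso K))⟩

/-- Restriction along the identity, on objects of the derived category. -/
theorem nonempty_resD_congr {f g : V ⟶ X} [IsOpenImmersion f] [IsOpenImmersion g] (h : f = g)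
    (K : DCoh.D X) : Nonempty ((resD f).obj K ≅ (resD g).obj K) :=
  ⟨(resD f).mapIso (DerivedCategory.Q.objObjPreimageIso K).symm ≪≫ resDQIso f _ ≪≫
    DerivedCategory.Q.mapIso ((resCCongr h).app _) ≪≫ (resDQIso g _).symm ≪≫
    (resD g).mapIso (DerivedCategory.Q.objObjPreimageIso K)⟩

theorem isFinLocFree_of_iso {M N : X.Modules} (e : M ≅ N) (h : FlatMod.IsFinLocFree M) :
    FlatMod.IsFinLocFree N := fun x => by
  obtain ⟨U, n, hU, ⟨e'⟩⟩ := h x
  exact ⟨U, n, hU, ⟨((res U.ι).mapIso e).symm ≪≫ e'⟩⟩

theorem isFinLocFree_res (j : V ⟶ X) [IsOpenImmersion j] {M : X.Modules}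
    (h : FlatMod.IsFinLocFree M) : FlatMod.IsFinLocFree ((res j).obj M) :=
  isFinLocFree_of_iso ((Scheme.Modules.restrictFunctorIsoPullback j).app M).symm
    (KFlatLib.isFinLocFree_pull j h)

theorem isStrictlyPerfect_res (j : V ⟶ X) [IsOpenImmersion j] {E : CochainComplex X.Modules ℤ}
    (h : DCoh.IsStrictlyPerfect E) : DCoh.IsStrictlyPerfect ((resC j).obj E) := by
  obtain ⟨⟨a, b, hv⟩, hf⟩ := h
  exact ⟨⟨a, b, fun i hi => (res j).map_isZero (hv i hi)⟩, fun i => isFinLocFree_res j (hf i)⟩

/-- Homotopies restrict further. -/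
noncomputable def homotopyComp (g : W ⟶ V) [IsOpenImmersion g] (j : V ⟶ X) [IsOpenImmersion j]
    {E F : CochainComplex X.Modules ℤ} {α β : E ⟶ F}
    (h : Homotopy ((resC g).map ((resC j).map α)) ((resC g).map ((resC j).map β))) :
    Homotopy ((resC (g ≫ j)).map α) ((resC (g ≫ j)).map β) :=
  have e : ∀ φ : E ⟶ F, (resCComp g j).hom.app E ≫ (resC g).map ((resC j).map φ) ≫
      (resCComp g j).inv.app F = (resC (g ≫ j)).map φ := fun φ => by
    have hn : (resC g).map ((resC j).map φ) ≫ (resCComp g j).inv.app F =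
        (resCComp g j).inv.app E ≫ (resC (g ≫ j)).map φ := (resCComp g j).inv.naturality φ
    rw [hn, Iso.hom_inv_id_app_assoc]
  (Homotopy.ofEq (e α).symm).trans (((h.compRight _).compLeft _).trans (Homotopy.ofEq (e β)))

/-- Homotopy transfers along equal maps. -/
noncomputable def homotopyCongr {f g : V ⟶ X} [IsOpenImmersion f] [IsOpenImmersion g] (hfg : f = g)
    {E F : CochainComplex X.Modules ℤ} {α β : E ⟶ F}
    (h : Homotopy ((resC f).map α) ((resC f).map β)) :
    Homotopy ((resC g).map α) ((resC g).map β) :=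
  have e : ∀ φ : E ⟶ F, (resCCongr hfg).inv.app E ≫ (resC f).map φ ≫
      (resCCongr hfg).hom.app F = (resC g).map φ := fun φ => by
    rw [(resCCongr hfg).hom.naturality φ, Iso.inv_hom_id_app_assoc]
  (Homotopy.ofEq (e α).symm).trans (((h.compRight _).compLeft _).trans (Homotopy.ofEq (e β)))

end Groth.Agent.PerfLib
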