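import Groth.Agent.PerfLib.Restrict
import Groth.Agent.KFlatLib.FreeModel
import Mathlib.Algebra.Homology.HomotopyCategory.MappingCone

/-!
# Sums and cones of strictly perfect complexes
-/

set_option autoImplicit false

universe u

open CategoryTheory CategoryTheory.Limits AlgebraicGeometry

attribute [local instance] HasDerivedCategory.standard

namespace Groth.Agent.PerfLib

open KFlatLib

variable {X : Scheme.{u}}

theorem isFinFree_biprod {M N : X.Modules} (hM : IsFinFree M) (hN : IsFinFree N) :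
    IsFinFree (M ⊞ N) := by
  let f : WalkingPair → X.Modules := fun p => WalkingPair.casesOn p M N
  have h : IsFinFree (∐ f) := isFinFree_sigma f fun p => by cases p <;> assumption
  have e : ∐ f ≅ M ⨿ N := HasColimit.isoOfNatIso
    (Discrete.natIso fun j => match j with
      | ⟨WalkingPair.left⟩ => Iso.refl _
      | ⟨WalkingPair.right⟩ => Iso.refl _)
  exact isFinFree_of_iso (e ≪≫ (biprod.isoCoprod M N).symm) h

theorem isFinFree_res {V : Scheme.{u}} (j : V ⟶ X) [IsOpenImmersion j] {M : X.Modules}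
    (h : IsFinFree M) : IsFinFree ((res j).obj M) :=
  isFinFree_of_iso ((Scheme.Modules.restrictFunctorIsoPullback j).app M).symm (isFinFree_pull j h)

theorem isFinFree_res_le {M : X.Modules} {U V : X.Opens} (h : U ≤ V)
    (hM : IsFinFree ((res V.ι).obj M)) : IsFinFree ((res U.ι).obj M) :=
  isFinFree_of_iso ((Scheme.Modules.restrictFunctorComp (X.homOfLE h) V.ι).symm.app M ≪≫
    (Scheme.Modules.restrictFunctorCongr (X.homOfLE_ι h)).app M) (isFinFree_res (X.homOfLE h) hM)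

theorem isFinLocFree_biprod {M N : X.Modules} (hM : FlatMod.IsFinLocFree M)
    (hN : FlatMod.IsFinLocFree N) : FlatMod.IsFinLocFree (M ⊞ N) := fun x => by
  obtain ⟨U₁, n₁, h₁, ⟨e₁⟩⟩ := hM x
  obtain ⟨U₂, n₂, h₂, ⟨e₂⟩⟩ := hN x
  obtain ⟨n, ⟨e⟩⟩ := isFinFree_biprod
    (isFinFree_res_le (inf_le_left : U₁ ⊓ U₂ ≤ U₁) ⟨n₁, ⟨e₁⟩⟩)
    (isFinFree_res_le (inf_le_right : U₁ ⊓ U₂ ≤ U₂) ⟨n₂, ⟨e₂⟩⟩)
  have := preservesBinaryBiproducts_of_preservesBinaryCoproducts (res (U₁ ⊓ U₂).ι)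
  exact ⟨U₁ ⊓ U₂, n, ⟨h₁, h₂⟩, ⟨(res (U₁ ⊓ U₂).ι).mapBiprod M N ≪≫ e⟩⟩

theorem isStrictlyPerfect_cone {E F : CochainComplex X.Modules ℤ} (φ : E ⟶ F)
    (hE : DCoh.IsStrictlyPerfect E) (hF : DCoh.IsStrictlyPerfect F) :
    DCoh.IsStrictlyPerfect (CochainComplex.mappingCone φ) := by
  obtain ⟨⟨a, b, hv⟩, hf⟩ := hE
  obtain ⟨⟨c, d, hv'⟩, hf'⟩ := hF
  have e : ∀ i : ℤ, (CochainComplex.mappingCone φ).X i ≅ E.X (i + 1) ⊞ F.X i := fun i =>
    HomologicalComplex.homotopyCofiber.XIsoBiprod φ i (i + 1) rfl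
  refine ⟨⟨min (a - 1) c, max b d, fun i hi => IsZero.of_iso ?_ (e i)⟩,
    fun i => isFinLocFree_of_iso (e i).symm (isFinLocFree_biprod (hf _) (hf' i))⟩
  rw [biprod_isZero_iff]
  exact ⟨hv _ (by omega), hv' _ (by omega)⟩

theorem isStrictlyPerfect_of_iso {E F : CochainComplex X.Modules ℤ} (e : E ≅ F)
    (h : DCoh.IsStrictlyPerfect E) : DCoh.IsStrictlyPerfect F := by
  obtain ⟨⟨a, b, hv⟩, hf⟩ := h
  exact ⟨⟨a, b, fun i hi => (hv i hi).of_iso
    ((HomologicalComplex.eval _ _ i).mapIso e).symm⟩,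
    fun i => isFinLocFree_of_iso ((HomologicalComplex.eval _ _ i).mapIso e) (hf i)⟩

end Groth.Agent.PerfLib
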