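import Groth.Agent.PerfLib.LiftLocal
import Groth.Agent.PerfLib.Strict
import Mathlib.Algebra.Homology.DerivedCategory.Fractions

/-!
# Local chain models of maps in the derived category; perfect objects in triangles
-/

set_option autoImplicit false

universe u

open CategoryTheory CategoryTheory.Limits AlgebraicGeometry Opposite Pretriangulated
open HomologicalComplex
open scoped ZeroObject

attribute [local instance] HasDerivedCategory.standard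

namespace Groth.Agent.PerfLib

variable {X V W : Scheme.{u}}

theorem Q_map_eq_of_homotopy {E F : CochainComplex X.Modules ℤ} {α β : E ⟶ F} (h : Homotopy α β) :
    DerivedCategory.Q.map α = DerivedCategory.Q.map β := by
  rw [← cancel_epi ((DerivedCategory.quotientCompQhIso X.Modules).hom.app E),
    ← DerivedCategory.quotientCompQhIso_hom_naturality,
    ← DerivedCategory.quotientCompQhIso_hom_naturality, HomotopyCategory.eq_of_homotopy _ _ h]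

/-- Maps in the derived category out of strictly perfect complexes are locally chain maps. -/
theorem exists_chain_local {E F : CochainComplex X.Modules ℤ} (hE : DCoh.IsStrictlyPerfect E)
    (α : DCoh.toD X E ⟶ DCoh.toD X F) (x : X) :
    ∃ (V : Scheme.{u}) (j : V ⟶ X) (_ : IsOpenImmersion j) (v : V)
      (φ : (resC j).obj E ⟶ (resC j).obj F), j v = x ∧
      (resD j).map α ≫ (resDQIso j F).hom = (resDQIso j E).hom ≫ DerivedCategory.Q.map φ := by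
  obtain ⟨Y, g, s, hs, rfl⟩ := DerivedCategory.left_fac α
  obtain ⟨⟨a, b, hv⟩, hf⟩ := id hE
  have hq : QuasiIso s := (DerivedCategory.isIso_Q_map_iff_quasiIso X.Modules s).1 hs
  obtain ⟨V, j, hj, v, β, hv', ⟨H⟩⟩ := exists_lift_local g s hE a
    (fun i hi => hv i (Or.inl hi)) (exactAt_cone s a (fun i _ => inferInstance) inferInstance) x
  refine ⟨V, j, hj, v, β, hv', ?_⟩
  rw [Functor.map_comp, Functor.map_inv, Category.assoc, ← cancel_mono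
    (DerivedCategory.Q.map ((resC j).map s))]
  simp only [Category.assoc]
  rw [← resDQIso_naturality j s, IsIso.inv_hom_id_assoc, resDQIso_naturality j g,
    ← Functor.map_comp, Q_map_eq_of_homotopy H]

/-- A strictly perfect model of `K` on an open immersion. -/
def HasModel (j : V ⟶ X) [IsOpenImmersion j] (K : DCoh.D X) : Prop :=
  ∃ E : CochainComplex V.Modules ℤ, DCoh.IsStrictlyPerfect E ∧
    Nonempty ((resD j).obj K ≅ DCoh.toD V E)

theorem hasModel_comp (g : W ⟶ V) [IsOpenImmersion g] (j : V ⟶ X) [IsOpenImmersion j]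
    {K : DCoh.D X} (h : HasModel j K) : HasModel (g ≫ j) K := by
  obtain ⟨E, hE, ⟨e⟩⟩ := h
  obtain ⟨c⟩ := nonempty_resD_comp g j K
  exact ⟨_, isStrictlyPerfect_res g hE, ⟨c ≪≫ (resD g).mapIso e ≪≫ resDQIso g E⟩⟩

theorem hasModel_congr {f g : V ⟶ X} [IsOpenImmersion f] [IsOpenImmersion g] (hfg : f = g)
    {K : DCoh.D X} (h : HasModel f K) : HasModel g K := by
  obtain ⟨E, hE, ⟨e⟩⟩ := h
  obtain ⟨c⟩ := nonempty_resD_congr hfg K
  exact ⟨E, hE, ⟨c.symm ≪≫ e⟩⟩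

/-- Perfectness through models on open immersions. -/
theorem isPerfect_iff (K : DCoh.D X) :
    DCoh.IsPerfect K ↔ ∀ x : X, ∃ (V : Scheme.{u}) (j : V ⟶ X) (_ : IsOpenImmersion j) (v : V),
      j v = x ∧ HasModel j K := by
  constructor
  · intro h x
    obtain ⟨U, hx, hU⟩ := h x
    obtain ⟨E, hE, ⟨e⟩⟩ := hU _ ⟨DerivedCategory.Q.objObjPreimageIso K⟩
    exact ⟨U, U.ι, inferInstance, ⟨x, hx⟩, rfl, E, hE,
      ⟨(resD U.ι).mapIso (DerivedCategory.Q.objObjPreimageIso K).symm ≪≫ resDQIso U.ι _ ≪≫ e⟩⟩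
  · intro h x
    obtain ⟨V, j, hj, v, hv, hm⟩ := h x
    obtain ⟨E, hE, ⟨e⟩⟩ := hasModel_congr (Scheme.Hom.isoOpensRange_inv_comp j)
      (hasModel_comp (Scheme.Hom.isoOpensRange j).inv j hm)
    exact ⟨j.opensRange, ⟨v, hv⟩, fun F ⟨eF⟩ => ⟨E, hE,
      ⟨(resDQIso j.opensRange.ι F).symm ≪≫ (resD j.opensRange.ι).mapIso eF ≪≫ e⟩⟩⟩

theorem isPerfect_of_iso {K L : DCoh.D X} (e : K ≅ L) (h : DCoh.IsPerfect K) :
    DCoh.IsPerfect L := fun x => by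
  obtain ⟨U, hx, hU⟩ := h x
  exact ⟨U, hx, fun F ⟨eF⟩ => hU F ⟨eF ≪≫ e.symm⟩⟩

theorem isPerfect_shift {K : DCoh.D X} (h : DCoh.IsPerfect K) (n : ℤ) :
    DCoh.IsPerfect (K⟦n⟧) := by
  rw [isPerfect_iff] at h ⊢
  intro x
  obtain ⟨V, j, hj, v, hv, E, ⟨⟨a, b, hE⟩, hf⟩, ⟨e⟩⟩ := h x
  refine ⟨V, j, hj, v, hv, E⟦n⟧, ⟨⟨a - n, b - n, fun i hi => hE (i + n) (by omega)⟩,
    fun i => hf (i + n)⟩, ⟨((resD j).commShiftIso n).app K ≪≫ (shiftFunctor _ n).mapIso e ≪≫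
      ((DerivedCategory.Q.commShiftIso n).app E).symm⟩⟩

theorem isPerfect_obj₃ (T : Triangle (DCoh.D X)) (hT : T ∈ distinguishedTriangles)
    (h₁ : DCoh.IsPerfect T.obj₁) (h₂ : DCoh.IsPerfect T.obj₂) : DCoh.IsPerfect T.obj₃ := by
  rw [isPerfect_iff] at h₁ ⊢
  intro x
  obtain ⟨V₁, j₁, hj₁, v₁, hv₁, hm₁⟩ := h₁ x
  obtain ⟨U₂, hx₂, hU₂⟩ := h₂ x
  let g : (j₁ ⁻¹ᵁ U₂).toScheme ⟶ V₁ := (j₁ ⁻¹ᵁ U₂).ι
  let j := g ≫ j₁
  have hm₂ : HasModel j T.obj₂ := by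
    obtain ⟨E, hE, ⟨e⟩⟩ := hU₂ _ ⟨DerivedCategory.Q.objObjPreimageIso T.obj₂⟩
    have hU : HasModel U₂.ι T.obj₂ := ⟨E, hE,
      ⟨(resD U₂.ι).mapIso (DerivedCategory.Q.objObjPreimageIso T.obj₂).symm ≪≫
        resDQIso U₂.ι _ ≪≫ e⟩⟩
    exact hasModel_congr (morphismRestrict_ι j₁ U₂) (hasModel_comp (j₁ ∣_ U₂) U₂.ι hU)
  obtain ⟨E₁, hE₁, ⟨e₁⟩⟩ := hasModel_comp g j₁ hm₁
  obtain ⟨E₂, hE₂, ⟨e₂⟩⟩ := hm₂
  let v : (j₁ ⁻¹ᵁ U₂).toScheme := ⟨v₁, show j₁ v₁ ∈ U₂ by rw [hv₁]; exact hx₂⟩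
  obtain ⟨W, k, hk, w, φ, hw, hφ⟩ :=
    exists_chain_local hE₁ (e₁.inv ≫ (resD j).map T.mor₁ ≫ e₂.hom) v
  refine ⟨W, k ≫ j, inferInstance, w, by rw [← hv₁]; change j (k w) = _; rw [hw]; rfl, _,
    isStrictlyPerfect_cone φ (isStrictlyPerfect_res k hE₁) (isStrictlyPerfect_res k hE₂), ?_⟩
  obtain ⟨c⟩ := nonempty_resD_comp k j T.obj₃
  refine ⟨c ≪≫ Triangle.π₃.mapIso (isoTriangleOfIso₁₂
    ((resD k).mapTriangle.obj ((resD j).mapTriangle.obj T))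
    (DerivedCategory.Q.mapTriangle.obj (CochainComplex.mappingCone.triangle φ))
    ((resD k).map_distinguished _ ((resD j).map_distinguished _ hT))
    ((DerivedCategory.mem_distTriang_iff _).2 ⟨_, _, φ, ⟨Iso.refl _⟩⟩)
    ((resD k).mapIso e₁ ≪≫ resDQIso k E₁) ((resD k).mapIso e₂ ≪≫ resDQIso k E₂) ?_)⟩
  change (resD k).map ((resD j).map T.mor₁) ≫ (resD k).map e₂.hom ≫ (resDQIso k E₂).hom =
    ((resD k).map e₁.hom ≫ (resDQIso k E₁).hom) ≫ DerivedCategory.Q.map φ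
  rw [Category.assoc, ← hφ, ← Functor.map_comp_assoc, ← Functor.map_comp_assoc,
    Iso.hom_inv_id_assoc]

theorem isPerfect_obj₂ (T : Triangle (DCoh.D X)) (hT : T ∈ distinguishedTriangles)
    (h₁ : DCoh.IsPerfect T.obj₁) (h₃ : DCoh.IsPerfect T.obj₃) : DCoh.IsPerfect T.obj₂ :=
  isPerfect_obj₃ _ (inv_rot_of_distTriang _ hT) (isPerfect_shift h₃ (-1)) h₁

theorem isPerfect_obj₁ (T : Triangle (DCoh.D X)) (hT : T ∈ distinguishedTriangles)
    (h₂ : DCoh.IsPerfect T.obj₂) (h₃ : DCoh.IsPerfect T.obj₃) : DCoh.IsPerfect T.obj₁ := by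
  have e : (T.obj₁⟦(1 : ℤ)⟧)⟦(-1 : ℤ)⟧ ≅ T.obj₁ :=
    (shiftFunctorCompIsoId _ (1 : ℤ) (-1) (by omega)).app T.obj₁
  exact isPerfect_of_iso e (isPerfect_shift
    (isPerfect_obj₃ _ (rot_of_distTriang _ hT) h₂ h₃) (-1))

theorem isPerfect_of_isZero {K : DCoh.D X} (h : IsZero K) : DCoh.IsPerfect K := by
  rw [isPerfect_iff]
  intro x
  have hz : IsZero (0 : CochainComplex X.Modules ℤ) := isZero_zero _
  exact ⟨X, 𝟙 X, inferInstance, x, rfl, (resC (𝟙 X)).obj 0,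
    ⟨⟨0, 0, fun i _ => ((resC (𝟙 X)) ⋙ HomologicalComplex.eval _ _ i).map_isZero hz⟩,
      fun i => KFlatLib.isFinLocFree_of_isFinFree (KFlatLib.isFinFree_of_isZero
        (((resC (𝟙 X)) ⋙ HomologicalComplex.eval _ _ i).map_isZero hz))⟩,
    ⟨((resD (𝟙 X)).map_isZero h).iso (DerivedCategory.Q.map_isZero ((resC (𝟙 X)).map_isZero hz))⟩⟩

end Groth.Agent.PerfLib
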