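import Groth.Agent.PerfLib.Restrict
import Mathlib.Algebra.Homology.ShortComplex.HomologicalComplex

/-!
# Brutal truncation of complexes of modules
-/

set_option autoImplicit false

universe u v

open CategoryTheory CategoryTheory.Limits HomologicalComplex

namespace Groth.Agent.PerfLib.Brutal

variable {C : Type u} [Category.{v} C] [Abelian C] (E : CochainComplex C ℤ) (m : ℤ)

/-- The endomorphism whose kernel is the truncated term. -/
noncomputable def chi (i : ℤ) : E.X i ⟶ E.X i := if m ≤ i then 0 else 𝟙 _

theorem chi_of_le {i : ℤ} (h : m ≤ i) : chi E m i = 0 := if_pos h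

theorem kernel_ι_of_lt {i : ℤ} (h : i < m) : kernel.ι (chi E m i) = 0 := by
  have := kernel.condition (chi E m i)
  simpa only [chi, if_neg (not_le.2 h), Category.comp_id] using this

theorem cond (i j : ℤ) (hij : i + 1 = j) :
    (kernel.ι (chi E m i) ≫ E.d i j) ≫ chi E m j = 0 := by
  by_cases h : m ≤ j
  · rw [chi_of_le E m h, comp_zero]
  · rw [kernel_ι_of_lt E m (show i < m by omega), zero_comp, zero_comp]

/-- The brutal truncation in degrees `≥ m`. -/
noncomputable def trunc : CochainComplex C ℤ where
  X i := kernel (chi E m i)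
  d i j := if h : i + 1 = j then kernel.lift _ _ (cond E m i j h) else 0
  shape i j h := dif_neg h
  d_comp_d' i j k (hij : i + 1 = j) (hjk : j + 1 = k) := by
    rw [dif_pos hij, dif_pos hjk, ← cancel_mono (kernel.ι (chi E m k))]
    simp

/-- The inclusion of the brutal truncation. -/
noncomputable def ι : trunc E m ⟶ E where
  f i := kernel.ι (chi E m i)
  comm' i j (hij : i + 1 = j) := by simp [trunc, hij]

theorem isIso_ι_f {i : ℤ} (h : m ≤ i) : IsIso ((ι E m).f i) := by
  change IsIso (kernel.ι (chi E m i))
  refine ⟨kernel.lift _ (𝟙 _) (by rw [chi_of_le E m h, comp_zero]), ?_, kernel.lift_ι _ _ _⟩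
  exact equalizer.hom_ext ((Category.assoc _ _ _).trans
    ((congrArg _ (kernel.lift_ι _ _ _)).trans
      ((Category.comp_id _).trans (Category.id_comp _).symm)))

theorem isZero_X {i : ℤ} (h : i < m) : IsZero ((trunc E m).X i) :=
  have h0 : IsZero (kernel (chi E m i)) :=
    IsZero.of_mono_eq_zero (kernel.ι (chi E m i)) (kernel_ι_of_lt E m h)
  h0

theorem isIso_homologyMap {i : ℤ} (h : m < i) : IsIso (homologyMap (ι E m) i) := by
  have h1 : IsIso ((ι E m).f ((ComplexShape.up ℤ).prev i)) :=
    isIso_ι_f E m (by rw [CochainComplex.prev]; omega)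
  have h2 : IsIso ((ι E m).f i) := isIso_ι_f E m (by omega)
  have h3 : IsIso ((ι E m).f ((ComplexShape.up ℤ).next i)) :=
    isIso_ι_f E m (by rw [CochainComplex.next]; omega)
  exact ShortComplex.isIso_homologyMap_of_epi_of_isIso_of_mono'
    ((shortComplexFunctor C (ComplexShape.up ℤ) i).map (ι E m))
    (show Epi ((ι E m).f ((ComplexShape.up ℤ).prev i)) from inferInstance) h2
    (show Mono ((ι E m).f ((ComplexShape.up ℤ).next i)) from inferInstance)

theorem epi_homologyMap : Epi (homologyMap (ι E m) m) := by
  have h2 : IsIso ((ι E m).f m) := isIso_ι_f E m le_rfl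
  have h3 : IsIso ((ι E m).f ((ComplexShape.up ℤ).next m)) :=
    isIso_ι_f E m (by rw [CochainComplex.next]; omega)
  have hc : IsIso (cyclesMap (ι E m) m) :=
    ShortComplex.isIso_cyclesMap_of_isIso_of_mono'
      ((shortComplexFunctor C (ComplexShape.up ℤ) m).map (ι E m)) h2
      (show Mono ((ι E m).f ((ComplexShape.up ℤ).next m)) from inferInstance)
  exact epi_of_epi_fac (homologyπ_naturality (ι E m) m)

end Groth.Agent.PerfLib.Brutal
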