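import Groth.Agent.DerLib.ExactHomology
import Mathlib.CategoryTheory.Abelian.DiagramLemmas.Four
import Mathlib.Algebra.Homology.DerivedCategory.HomologySequence
import Mathlib.Algebra.Homology.DerivedCategory.TStructure

/-!
# Maps inducing isomorphisms above a degree and an epimorphism in that degree
-/

set_option autoImplicit false

universe w w' v v' u u'

open CategoryTheory CategoryTheory.Limits Pretriangulated

namespace Groth.Agent.PerfLib

variable {C : Type u} [Category.{v} C] [Abelian C] [HasDerivedCategory.{w} C]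

/-- Iso on cohomology above `m`, epi at `m`. -/
def IAE {X Y : DerivedCategory C} (α : X ⟶ Y) (m : ℤ) : Prop :=
  (∀ i : ℤ, m < i → IsIso ((DerivedCategory.homologyFunctor C i).map α)) ∧
    Epi ((DerivedCategory.homologyFunctor C m).map α)

namespace IAE

variable {X Y Z : DerivedCategory C} {α : X ⟶ Y} {β : Y ⟶ Z} {m : ℤ}

theorem of_isIso (α : X ⟶ Y) [IsIso α] (m : ℤ) : IAE α m :=
  ⟨fun _ _ => inferInstance, inferInstance⟩

theorem comp (ha : IAE α m) (hb : IAE β m) : IAE (α ≫ β) m := by
  obtain ⟨h1, h2⟩ := ha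
  obtain ⟨h3, h4⟩ := hb
  refine ⟨fun i hi => ?_, ?_⟩
  · have := h1 i hi
    have := h3 i hi
    rw [Functor.map_comp]
    infer_instance
  · rw [Functor.map_comp]
    exact epi_comp _ _

theorem mono_deg {n : ℤ} (ha : IAE α m) (h : m ≤ n) : IAE α n := by
  refine ⟨fun i hi => ha.1 i (by omega), ?_⟩
  rcases h.eq_or_lt with rfl | h
  · exact ha.2
  · have := ha.1 n h
    infer_instance

theorem shift (ha : IAE α m) (n : ℤ) : IAE (α⟦n⟧') (m - n) := by
  have key : ∀ i, Arrow.mk ((DerivedCategory.homologyFunctor C i).map (α⟦n⟧')) ≅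
      Arrow.mk ((DerivedCategory.homologyFunctor C (n + i)).map α) := fun i =>
    Arrow.isoMk (((DerivedCategory.homologyFunctor C 0).shiftIso n i (n + i) rfl).app X)
      (((DerivedCategory.homologyFunctor C 0).shiftIso n i (n + i) rfl).app Y)
      (((DerivedCategory.homologyFunctor C 0).shiftIso n i (n + i) rfl).hom.naturality α).symm
  refine ⟨fun i hi => ?_, ?_⟩
  · exact ((MorphismProperty.isomorphisms C).arrow_mk_iso_iff (key i)).2 (ha.1 (n + i) (by omega))
  · have := ha.2
    have e := key (m - n)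
    rw [show n + (m - n) = m by omega] at e
    exact ((MorphismProperty.epimorphisms C).arrow_mk_iso_iff e).2 this

theorem map {D : Type u'} [Category.{v'} D] [Abelian D] [HasDerivedCategory.{w'} D]
    (G : C ⥤ D) [G.Additive] [PreservesFiniteLimits G] [PreservesFiniteColimits G] (ha : IAE α m) :
    IAE (G.mapDerivedCategory.map α) m := by
  refine ⟨fun i hi => ?_, ?_⟩
  · have := ha.1 i hi
    exact Groth.Agent.DerLib.ExactHomology.isIso_homology_map G α i
  · have := ha.2
    let e := Groth.Agent.DerLib.ExactHomology.homologyIso G m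
    have h : (DerivedCategory.homologyFunctor D m).map (G.mapDerivedCategory.map α) =
        e.hom.app X ≫ G.map ((DerivedCategory.homologyFunctor C m).map α) ≫ e.inv.app Y := by
      have hn := e.hom.naturality α
      dsimp at hn
      rw [← reassoc_of% hn, Iso.hom_inv_id_app]
      exact (Category.comp_id _).symm
    rw [h]
    have : Epi (G.map ((DerivedCategory.homologyFunctor C m).map α)) := inferInstance
    infer_instance

open ComposableArrows in
theorem third {T T' : Triangle (DerivedCategory C)} (hT : T ∈ distinguishedTriangles)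
    (hT' : T' ∈ distinguishedTriangles) (φ : T ⟶ T') (h₁ : IAE φ.hom₁ (m + 1))
    (h₂ : IAE φ.hom₂ m) : IAE φ.hom₃ m := by
  let H := DerivedCategory.homologyFunctor C
  let R : Triangle (DerivedCategory C) → ℤ → ComposableArrows C 4 := fun T i =>
    mk₄ ((H i).map T.mor₁) ((H i).map T.mor₂)
      (DerivedCategory.HomologySequence.δ T i (i + 1) rfl) ((H (i + 1)).map T.mor₁)
  have hR : ∀ T : Triangle (DerivedCategory C), T ∈ distinguishedTriangles → ∀ i, (R T i).Exact :=
    fun T hT i => exact_of_δ₀
      (DerivedCategory.HomologySequence.exact₂ T hT i).exact_toComposableArrows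
      (exact_of_δ₀ (DerivedCategory.HomologySequence.exact₃ T hT i (i + 1) rfl).exact_toComposableArrows
        (DerivedCategory.HomologySequence.exact₁ T hT i (i + 1) rfl).exact_toComposableArrows)
  let ψ : ∀ i, R T i ⟶ R T' i := fun i => homMk₄ ((H i).map φ.hom₁) ((H i).map φ.hom₂)
    ((H i).map φ.hom₃) ((H (i + 1)).map φ.hom₁) ((H (i + 1)).map φ.hom₂)
    (by change (H i).map T.mor₁ ≫ _ = _ ≫ (H i).map T'.mor₁; rw [← Functor.map_comp, φ.comm₁, Functor.map_comp])
    (by change (H i).map T.mor₂ ≫ _ = _ ≫ (H i).map T'.mor₂; rw [← Functor.map_comp, φ.comm₂, Functor.map_comp])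
    ((Functor.homologySequenceδ_naturality _ T T' φ i (i + 1) rfl).symm)
    (by change (H (i + 1)).map T.mor₁ ≫ _ = _ ≫ (H (i + 1)).map T'.mor₁
        rw [← Functor.map_comp, φ.comm₁, Functor.map_comp])
  refine ⟨fun i hi => ?_, ?_⟩
  · refine Abelian.isIso_of_epi_of_isIso_of_isIso_of_mono (hR T hT i) (hR T' hT' i) (ψ i) ?_
      (h₂.1 i hi) (h₁.1 (i + 1) (by omega)) ?_
    · rcases (show m + 1 ≤ i by omega).eq_or_lt with rfl | h
      · exact h₁.2
      · have := h₁.1 i h
        exact (inferInstance : Epi ((H i).map φ.hom₁))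
    · have := h₂.1 (i + 1) (by omega)
      exact (inferInstance : Mono ((H (i + 1)).map φ.hom₂))
  · exact Abelian.epi_of_epi_of_epi_of_mono
      ((δ₀Functor).map (ψ m))
      ((R T m).exact_iff_δ₀.1 (hR T hT m)).2 ((R T' m).exact_iff_δ₀.1 (hR T' hT' m)).2
      h₂.2 h₁.2 (by have := h₂.1 (m + 1) (by omega); exact (inferInstance : Mono ((H (m + 1)).map φ.hom₂)))

end IAE

end Groth.Agent.PerfLib
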