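import Groth.Agent.PerfLib.Derived
import Groth.Agent.PerfLib.Brutal
import Groth.Agent.PerfLib.IAE

/-!
# Pseudo-coherent objects in triangles
-/

set_option autoImplicit false
set_option linter.style.haveILetI false

universe u

open CategoryTheory CategoryTheory.Limits AlgebraicGeometry Opposite Pretriangulated
open HomologicalComplex
open scoped ZeroObject

attribute [local instance] HasDerivedCategory.standard

namespace Groth.Agent.PerfLib

variable {X V W : Scheme.{u}}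

/-- An `m`-pseudo-coherence model of `K` on an open immersion. -/
def HasPC (j : V ⟶ X) [IsOpenImmersion j] (m : ℤ) (K : DCoh.D X) : Prop :=
  ∃ (E : CochainComplex V.Modules ℤ) (α : DCoh.toD V E ⟶ (resD j).obj K),
    DCoh.IsStrictlyPerfect E ∧ IAE α m

theorem hasPC_comp (g : W ⟶ V) [IsOpenImmersion g] (j : V ⟶ X) [IsOpenImmersion j] {m : ℤ}
    {K : DCoh.D X} (h : HasPC j m K) : HasPC (g ≫ j) m K := by
  obtain ⟨E, α, hE, hα⟩ := h
  obtain ⟨c⟩ := nonempty_resD_comp g j K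
  exact ⟨_, (resDQIso g E).inv ≫ (resD g).map α ≫ c.inv, isStrictlyPerfect_res g hE,
    (IAE.of_isIso _ m).comp ((hα.map (res g)).comp (IAE.of_isIso _ m))⟩

/-- Pseudo-coherence of a restriction gives pseudo-coherence on the composite. -/
theorem hasPC_of_res (g : W ⟶ V) [IsOpenImmersion g] (j : V ⟶ X) [IsOpenImmersion j] {m : ℤ}
    {K : DCoh.D X} (h : HasPC g m ((resD j).obj K)) : HasPC (g ≫ j) m K := by
  obtain ⟨E, α, hE, hα⟩ := h
  obtain ⟨c⟩ := nonempty_resD_comp g j K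
  exact ⟨E, α ≫ c.inv, hE, hα.comp (IAE.of_isIso _ m)⟩

theorem hasPC_congr {f g : V ⟶ X} [IsOpenImmersion f] [IsOpenImmersion g] (hfg : f = g) {m : ℤ}
    {K : DCoh.D X} (h : HasPC f m K) : HasPC g m K := by
  obtain ⟨E, α, hE, hα⟩ := h
  obtain ⟨c⟩ := nonempty_resD_congr hfg K
  exact ⟨E, α ≫ c.hom, hE, hα.comp (IAE.of_isIso _ m)⟩

/-- Pseudo-coherence through models on open immersions. -/
theorem isPC_iff (m : ℤ) (K : DCoh.D X) :
    DCoh.IsPseudoCoherentD m K ↔ ∀ x : X, ∃ (V : Scheme.{u}) (j : V ⟶ X) (_ : IsOpenImmersion j)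
      (v : V), j v = x ∧ HasPC j m K := by
  constructor
  · intro h x
    obtain ⟨U, hx, hU⟩ := h x
    obtain ⟨E, α, hE, hα⟩ := hU _ ⟨DerivedCategory.Q.objObjPreimageIso K⟩
    exact ⟨U, U.ι, inferInstance, ⟨x, hx⟩, rfl, E, α ≫ (resDQIso U.ι _).inv ≫
      (resD U.ι).map (DerivedCategory.Q.objObjPreimageIso K).hom, hE,
      IAE.comp hα ((IAE.of_isIso _ m).comp (IAE.of_isIso _ m))⟩
  · intro h x
    obtain ⟨V, j, hj, v, hv, hm⟩ := h x
    obtain ⟨E, α, hE, hα⟩ := hasPC_congr (Scheme.Hom.isoOpensRange_inv_comp j)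
      (hasPC_comp (Scheme.Hom.isoOpensRange j).inv j hm)
    refine ⟨j.opensRange, ⟨v, hv⟩, fun F ⟨eF⟩ => ?_⟩
    exact ⟨E, α ≫ (resD j.opensRange.ι).map eF.inv ≫ (resDQIso j.opensRange.ι F).hom, hE,
      IAE.comp hα ((IAE.of_isIso _ m).comp (IAE.of_isIso _ m))⟩

theorem isPC_of_iso {m : ℤ} {K L : DCoh.D X} (e : K ≅ L) (h : DCoh.IsPseudoCoherentD m K) :
    DCoh.IsPseudoCoherentD m L := fun x => by
  obtain ⟨U, hx, hU⟩ := h x
  exact ⟨U, hx, fun F ⟨eF⟩ => hU F ⟨eF ≪≫ e.symm⟩⟩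

theorem isPC_mono {m n : ℤ} (hmn : m ≤ n) {K : DCoh.D X} (h : DCoh.IsPseudoCoherentD m K) :
    DCoh.IsPseudoCoherentD n K := by
  rw [isPC_iff] at h ⊢
  intro x
  obtain ⟨V, j, hj, v, hv, E, α, hE, hα⟩ := h x
  exact ⟨V, j, hj, v, hv, E, α, hE, hα.mono_deg hmn⟩

theorem isPC_shift {m : ℤ} {K : DCoh.D X} (h : DCoh.IsPseudoCoherentD m K) (n : ℤ) :
    DCoh.IsPseudoCoherentD (m - n) (K⟦n⟧) := by
  rw [isPC_iff] at h ⊢
  intro x
  obtain ⟨V, j, hj, v, hv, E, α, ⟨⟨a, b, hE⟩, hf⟩, hα⟩ := h x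
  refine ⟨V, j, hj, v, hv, E⟦n⟧, ((DerivedCategory.Q.commShiftIso n).app E).hom ≫ α⟦n⟧' ≫
      ((resD j).commShiftIso n).inv.app K,
    ⟨⟨a - n, b - n, fun i hi => hE (i + n) (by omega)⟩, fun i => hf (i + n)⟩, ?_⟩
  exact (IAE.of_isIso _ _).comp ((hα.shift n).comp (IAE.of_isIso _ _))

/-- Models may be taken to vanish below `m`. -/
theorem exists_model_ge {j : V ⟶ X} [IsOpenImmersion j] {m : ℤ} {K : DCoh.D X} (h : HasPC j m K) :
    ∃ (E : CochainComplex V.Modules ℤ) (α : DCoh.toD V E ⟶ (resD j).obj K),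
      DCoh.IsStrictlyPerfect E ∧ (∀ i, i < m → IsZero (E.X i)) ∧ IAE α m := by
  obtain ⟨E, α, ⟨⟨a, b, hE⟩, hf⟩, hα⟩ := h
  refine ⟨Brutal.trunc E m, DerivedCategory.Q.map (Brutal.ι E m) ≫ α, ⟨⟨m, max b m, fun i hi => ?_⟩,
    fun i => ?_⟩, fun i hi => Brutal.isZero_X E m hi, IAE.comp ⟨fun i hi => ?_, ?_⟩ hα⟩
  · rcases hi with hi | hi
    · exact Brutal.isZero_X E m hi
    · haveI := Brutal.isIso_ι_f E m (show m ≤ i by omega)
      exact (hE i (Or.inr (by omega))).of_iso (asIso ((Brutal.ι E m).f i))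
  · rcases lt_or_ge i m with hi | hi
    · exact KFlatLib.isFinLocFree_of_isFinFree (KFlatLib.isFinFree_of_isZero (Brutal.isZero_X E m hi))
    · haveI := Brutal.isIso_ι_f E m hi
      exact isFinLocFree_of_iso (asIso ((Brutal.ι E m).f i)).symm (hf i)
  · exact (NatIso.isIso_map_iff (DerivedCategory.homologyFunctorFactors V.Modules i)
      (Brutal.ι E m)).2 (Brutal.isIso_homologyMap E m hi)
  · exact ((MorphismProperty.epimorphisms V.Modules).arrow_mk_iso_iff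
      (Arrow.isoMk ((DerivedCategory.homologyFunctorFactors V.Modules m).app _)
        ((DerivedCategory.homologyFunctorFactors V.Modules m).app E)
        ((DerivedCategory.homologyFunctorFactors V.Modules m).hom.naturality (Brutal.ι E m)).symm)).2
      (Brutal.epi_homologyMap E m)

theorem isPC_obj₃ (T : Triangle (DCoh.D X)) (hT : T ∈ distinguishedTriangles) (m : ℤ)
    (h₁ : DCoh.IsPseudoCoherentD (m + 1) T.obj₁) (h₂ : DCoh.IsPseudoCoherentD m T.obj₂) :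
    DCoh.IsPseudoCoherentD m T.obj₃ := by
  rw [isPC_iff] at h₁ ⊢
  intro x
  obtain ⟨V₁, j₁, hj₁, v₁, hv₁, hm₁⟩ := h₁ x
  obtain ⟨U₂, hx₂, hU₂⟩ := h₂ x
  let g : (j₁ ⁻¹ᵁ U₂).toScheme ⟶ V₁ := (j₁ ⁻¹ᵁ U₂).ι
  let j := g ≫ j₁
  have hm₂ : HasPC j m T.obj₂ := by
    obtain ⟨E, α, hE, hα⟩ := hU₂ _ ⟨DerivedCategory.Q.objObjPreimageIso T.obj₂⟩
    have hU : HasPC U₂.ι m T.obj₂ := ⟨E, α ≫ (resDQIso U₂.ι _).inv ≫
      (resD U₂.ι).map (DerivedCategory.Q.objObjPreimageIso T.obj₂).hom, hE,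
      IAE.comp hα ((IAE.of_isIso _ m).comp (IAE.of_isIso _ m))⟩
    exact hasPC_congr (morphismRestrict_ι j₁ U₂) (hasPC_comp (j₁ ∣_ U₂) U₂.ι hU)
  obtain ⟨E, αE, hE, hE0, hαE⟩ := exists_model_ge (hasPC_comp g j₁ hm₁)
  obtain ⟨F, αF, hF, hαF⟩ := hm₂
  let v : (j₁ ⁻¹ᵁ U₂).toScheme := ⟨v₁, show j₁ v₁ ∈ U₂ by rw [hv₁]; exact hx₂⟩
  -- the obstruction vanishes locally
  obtain ⟨C, p, q, hC⟩ := distinguished_cocone_triangle αF
  let C₀ := DerivedCategory.Q.objPreimage C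
  let eC : DCoh.toD _ C₀ ≅ C := DerivedCategory.Q.objObjPreimageIso C
  have hC0 : ∀ i, m + 1 ≤ i → C₀.ExactAt i := fun i hi => exactAt_of_isZero_HD
    (((KFlatLib.isoAboveEpiAt_iff _ hC m).1 hαF i (by omega)).of_iso
      ((DerivedCategory.homologyFunctor _ i).mapIso eC))
  obtain ⟨W₁, k₁, hk₁, w₁, φ₁, hw₁, hφ₁⟩ :=
    exists_chain_local hE (αE ≫ (resD j).map T.mor₁ ≫ p ≫ eC.inv) v
  obtain ⟨W₂, k₂, hk₂, w₂, hw₂, ⟨H⟩⟩ := exists_null_local φ₁ (isStrictlyPerfect_res k₁ hE) (m + 1)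
    (fun i hi => (res k₁).map_isZero (hE0 i hi)) (fun i hi => exactAt_res k₁ (hC0 i hi)) w₁
  let T₂ := (resD k₂).mapTriangle.obj ((resD k₁).mapTriangle.obj ((resD j).mapTriangle.obj T))
  have hT₂ : T₂ ∈ distinguishedTriangles :=
    (resD k₂).map_distinguished _ ((resD k₁).map_distinguished _ ((resD j).map_distinguished _ hT))
  let eE := (resD k₂).mapIso (resDQIso k₁ E) ≪≫ resDQIso k₂ ((resC k₁).obj E)
  let eF := (resD k₂).mapIso (resDQIso k₁ F) ≪≫ resDQIso k₂ ((resC k₁).obj F)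
  let αE' := eE.inv ≫ (resD k₂).map ((resD k₁).map αE)
  let αF' := eF.inv ≫ (resD k₂).map ((resD k₁).map αF)
  have hCd := (resD k₂).map_distinguished _ ((resD k₁).map_distinguished _ hC)
  have hz : (αE' ≫ T₂.mor₁) ≫ (resD k₂).map ((resD k₁).map p) = 0 := by
    have h0 : (resD k₂).map ((resD k₁).map (αE ≫ (resD j).map T.mor₁ ≫ p ≫ eC.inv)) = 0 := by
      rw [← cancel_mono ((resD k₂).map (resDQIso k₁ C₀).hom), ← Functor.map_comp, hφ₁,
        Functor.map_comp, ← cancel_mono (resDQIso k₂ ((resC k₁).obj C₀)).hom, Category.assoc,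
        resDQIso_naturality, Q_map_eq_of_homotopy H, Functor.map_zero, comp_zero, comp_zero,
        zero_comp, zero_comp]
    rw [← cancel_mono ((resD k₂).map ((resD k₁).map eC.inv)), zero_comp]
    simp only [Functor.map_comp] at h0
    change (((eE.inv ≫ (resD k₂).map ((resD k₁).map αE)) ≫
      (resD k₂).map ((resD k₁).map ((resD j).map T.mor₁))) ≫
        (resD k₂).map ((resD k₁).map p)) ≫ (resD k₂).map ((resD k₁).map eC.inv) = 0
    simp only [Category.assoc, h0, comp_zero]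
  obtain ⟨φ₂, hφ₂⟩ := Triangle.coyoneda_exact₂ _ hCd (αE' ≫ T₂.mor₁) hz
  obtain ⟨W₃, k₃, hk₃, w₃, φ₃, hw₃, hφ₃⟩ := exists_chain_local
    (isStrictlyPerfect_res k₂ (isStrictlyPerfect_res k₁ hE)) (φ₂ ≫ eF.hom) w₂
  let T₃ := (resD k₃).mapTriangle.obj T₂
  let S := DerivedCategory.Q.mapTriangle.obj (CochainComplex.mappingCone.triangle φ₃)
  have hS : S ∈ distinguishedTriangles :=
    (DerivedCategory.mem_distTriang_iff _).2 ⟨_, _, φ₃, ⟨Iso.refl _⟩⟩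
  have hT₃ : T₃ ∈ distinguishedTriangles := (resD k₃).map_distinguished _ hT₂
  have comm : DerivedCategory.Q.map φ₃ ≫ ((resDQIso k₃ _).inv ≫ (resD k₃).map αF') =
      ((resDQIso k₃ _).inv ≫ (resD k₃).map αE') ≫ T₃.mor₁ := by
    have h3 : DerivedCategory.Q.map φ₃ ≫ (resDQIso k₃ _).inv =
        (resDQIso k₃ _).inv ≫ (resD k₃).map (φ₂ ≫ eF.hom) := by
      rw [Iso.comp_inv_eq, Category.assoc, hφ₃, Iso.inv_hom_id_assoc]
    rw [← Category.assoc, h3, Category.assoc, Category.assoc, ← Functor.map_comp]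
    refine congrArg ((resDQIso k₃ _).inv ≫ ·) ?_
    change _ = (resD k₃).map αE' ≫ (resD k₃).map T₂.mor₁
    rw [← Functor.map_comp]
    refine congrArg (resD k₃).map (Eq.trans ?_ hφ₂.symm)
    exact (Category.assoc _ _ _).trans (congrArg (φ₂ ≫ ·) (Iso.hom_inv_id_assoc eF _))
  obtain ⟨χ, hχ₂, hχ₃⟩ := complete_distinguished_triangle_morphism S T₃ hS hT₃
    ((resDQIso k₃ _).inv ≫ (resD k₃).map αE') ((resDQIso k₃ _).inv ≫ (resD k₃).map αF') comm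
  have iE : IAE ((resDQIso k₃ _).inv ≫ (resD k₃).map αE') (m + 1) :=
    (IAE.of_isIso _ _).comp (((IAE.of_isIso _ _).comp ((hαE.map (res k₁)).map (res k₂))).map (res k₃))
  have iF : IAE ((resDQIso k₃ _).inv ≫ (resD k₃).map αF') m :=
    (IAE.of_isIso _ _).comp (((IAE.of_isIso _ _).comp ((IAE.map (res k₂) (IAE.map (res k₁) hαF)))).map (res k₃))
  let M : Triangle (DCoh.D W₃) := T₃
  have hχ : IAE χ m := IAE.third hS hT₃
    (Triangle.homMk S T₃ ((resDQIso k₃ _).inv ≫ (resD k₃).map αE')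
      ((resDQIso k₃ _).inv ≫ (resD k₃).map αF') χ comm hχ₂ hχ₃) iE iF
  refine ⟨W₃, k₃ ≫ (k₂ ≫ (k₁ ≫ j)), inferInstance, w₃, ?_, ?_⟩
  · rw [← hv₁]
    change j (k₁ (k₂ (k₃ w₃))) = _
    rw [hw₃, hw₂, hw₁]
    rfl
  · obtain ⟨c₂⟩ := nonempty_resD_comp k₂ (k₁ ≫ j) T.obj₃
    obtain ⟨c₁⟩ := nonempty_resD_comp k₁ j T.obj₃
    refine hasPC_of_res k₃ (k₂ ≫ (k₁ ≫ j)) ⟨_, χ ≫ ((resD k₃).mapIso
      ((resD k₂).mapIso c₁.symm ≪≫ c₂.symm)).hom, isStrictlyPerfect_cone φ₃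
        (isStrictlyPerfect_res k₃ (isStrictlyPerfect_res k₂ (isStrictlyPerfect_res k₁ hE)))
        (isStrictlyPerfect_res k₃ (isStrictlyPerfect_res k₂ (isStrictlyPerfect_res k₁ hF))),
      IAE.comp hχ (IAE.of_isIso _ m)⟩

theorem isPC_obj₂ (T : Triangle (DCoh.D X)) (hT : T ∈ distinguishedTriangles) (m : ℤ)
    (h₁ : DCoh.IsPseudoCoherentD m T.obj₁) (h₃ : DCoh.IsPseudoCoherentD m T.obj₃) :
    DCoh.IsPseudoCoherentD m T.obj₂ :=
  isPC_obj₃ _ (inv_rot_of_distTriang _ hT) m (by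
    have := isPC_shift h₃ (-1)
    rwa [sub_neg_eq_add] at this) h₁

theorem isPC_obj₁ (T : Triangle (DCoh.D X)) (hT : T ∈ distinguishedTriangles) (m : ℤ)
    (h₂ : DCoh.IsPseudoCoherentD (m + 1) T.obj₂) (h₃ : DCoh.IsPseudoCoherentD m T.obj₃) :
    DCoh.IsPseudoCoherentD (m + 1) T.obj₁ := by
  refine isPC_obj₃ _ (inv_rot_of_distTriang _ (inv_rot_of_distTriang _ hT)) (m + 1) ?_ ?_
  · have := isPC_shift h₂ (-1)
    rwa [sub_neg_eq_add] at this
  · have := isPC_shift h₃ (-1)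
    rwa [sub_neg_eq_add] at this

end Groth.Agent.PerfLib
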