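import Groth.Agent.PerfLib.PCoh

/-!
# Direct summands of pseudo-coherent objects
-/

set_option autoImplicit false
set_option linter.style.haveILetI false

universe u

open CategoryTheory CategoryTheory.Limits AlgebraicGeometry Opposite Pretriangulated
open HomologicalComplex
open scoped ZeroObject

attribute [local instance] HasDerivedCategory.standard

namespace Groth.Agent.PerfLib

variable {X : Scheme.{u}}

/-- An object without cohomology in degrees `≥ m` is `m`-pseudo-coherent. -/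
theorem isPC_of_isZero_above {m : ℤ} {K : DCoh.D X} (h : ∀ i, m ≤ i → IsZero (DCoh.HD K i)) :
    DCoh.IsPseudoCoherentD m K := by
  rw [isPC_iff]
  intro x
  have hz : ∀ i, IsZero (((resC (𝟙 X)).obj (0 : CochainComplex X.Modules ℤ)).X i) := fun i =>
    ((resC (𝟙 X)) ⋙ HomologicalComplex.eval _ _ i).map_isZero (isZero_zero _)
  refine ⟨X, 𝟙 X, inferInstance, x, rfl, (resC (𝟙 X)).obj 0, 0,
    ⟨⟨0, 0, fun i _ => hz i⟩, fun i => KFlatLib.isFinLocFree_of_isFinFree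
      (KFlatLib.isFinFree_of_isZero (hz i))⟩, fun i hi => ?_, ?_⟩
  · have h1 : IsZero (DCoh.HD ((resD (𝟙 X)).obj K) i) :=
      ((res (𝟙 X)).map_isZero (h i hi.le)).of_iso
        ((Groth.Agent.DerLib.ExactHomology.homologyIso (res (𝟙 X)) i).app K)
    have h2 : IsZero (DCoh.HD (DCoh.toD X ((resC (𝟙 X)).obj 0)) i) :=
      isZero_HD_of_exactAt (ExactAt.of_isZero (hz i))
    exact ⟨0, h2.eq_of_src _ _, h1.eq_of_src _ _⟩
  · exact ⟨fun _ _ _ => (((res (𝟙 X)).map_isZero (h m le_rfl)).of_iso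
      ((Groth.Agent.DerLib.ExactHomology.homologyIso (res (𝟙 X)) m).app K)).eq_of_src _ _⟩

/-- Pseudo-coherence is local. -/
theorem isPC_local {m : ℤ} {K : DCoh.D X}
    (h : ∀ x : X, ∃ (V : Scheme.{u}) (j : V ⟶ X) (_ : IsOpenImmersion j) (v : V),
      j v = x ∧ DCoh.IsPseudoCoherentD m ((resD j).obj K)) : DCoh.IsPseudoCoherentD m K := by
  rw [isPC_iff]
  intro x
  obtain ⟨V, j, hj, v, hv, hpc⟩ := h x
  obtain ⟨W, g, hg, w, hw, hm⟩ := (isPC_iff m _).1 hpc v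
  exact ⟨W, g ≫ j, inferInstance, w, by rw [← hv, ← hw]; rfl, hasPC_of_res g j hm⟩

theorem isPC_res {m : ℤ} {K : DCoh.D X} (h : DCoh.IsPseudoCoherentD m K) {V : Scheme.{u}}
    (j : V ⟶ X) [IsOpenImmersion j] : DCoh.IsPseudoCoherentD m ((resD j).obj K) := by
  rw [isPC_iff]
  intro v
  obtain ⟨U, hx, hU⟩ := h (j v)
  obtain ⟨E, α, hE, hα⟩ := hU _ ⟨DerivedCategory.Q.objObjPreimageIso K⟩
  have hU' : HasPC U.ι m K := ⟨E, α ≫ (resDQIso U.ι _).inv ≫
    (resD U.ι).map (DerivedCategory.Q.objObjPreimageIso K).hom, hE,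
    IAE.comp hα ((IAE.of_isIso _ m).comp (IAE.of_isIso _ m))⟩
  obtain ⟨E', α', hE', hα'⟩ := hasPC_congr (morphismRestrict_ι j U) (hasPC_comp (j ∣_ U) U.ι hU')
  obtain ⟨c⟩ := nonempty_resD_comp (j ⁻¹ᵁ U).ι j K
  exact ⟨_, (j ⁻¹ᵁ U).ι, inferInstance, ⟨v, hx⟩, rfl, E', α' ≫ c.hom, hE',
    hα'.comp (IAE.of_isIso _ m)⟩

/-- The product over a pair is the biproduct. -/
noncomputable def prodPairIso (f : WalkingPair → DCoh.D X) [HasProduct f] :
    ∏ᶜ f ≅ f WalkingPair.left ⊞ f WalkingPair.right :=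
  HasLimit.isoOfNatIso (diagramIsoPair _) ≪≫ (biprod.isoProd _ _).symm

/-- The cone of `id ⊞ 0 : M ⊞ A ⟶ M ⊞ B` is `B ⊞ A⟦1⟧`. -/
theorem isPC_swap (m : ℤ) (M A B : DCoh.D X) (h₁ : DCoh.IsPseudoCoherentD (m + 1) (M ⊞ A))
    (h₂ : DCoh.IsPseudoCoherentD m (M ⊞ B)) :
    DCoh.IsPseudoCoherentD m (B ⊞ A⟦(1 : ℤ)⟧) := by
  let T₂ : Triangle (DCoh.D X) := (binaryBiproductTriangle B (A⟦(1 : ℤ)⟧)).invRotate
  let T : WalkingPair → Triangle (DCoh.D X) := fun p =>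
    WalkingPair.casesOn p (contractibleTriangle M) T₂
  have hT : ∀ p, T p ∈ distinguishedTriangles := fun p => by
    cases p
    · exact contractible_distinguished M
    · exact inv_rot_of_distTriang _ (binaryBiproductTriangle_distinguished _ _)
  haveI : ∀ f : WalkingPair → DCoh.D X, HasProduct f := fun f => inferInstance
  have eA : (A⟦(1 : ℤ)⟧)⟦(-1 : ℤ)⟧ ≅ A :=
    (shiftFunctorCompIsoId _ (1 : ℤ) (-1) (by omega)).app A
  let P := productTriangle T
  have e₁ : P.obj₁ ≅ M ⊞ A := prodPairIso (fun p => (T p).obj₁) ≪≫ biprod.mapIso (Iso.refl M) eA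
  have e₂ : P.obj₂ ≅ M ⊞ B := prodPairIso (fun p => (T p).obj₂)
  have e₃ : P.obj₃ ≅ B ⊞ A⟦(1 : ℤ)⟧ := prodPairIso (fun p => (T p).obj₃) ≪≫
    (isoZeroBiprod (isZero_zero (DCoh.D X))).symm
  exact isPC_of_iso e₃ (isPC_obj₃ P (productTriangle_distinguished T hT) m
    (isPC_of_iso e₁.symm h₁) (isPC_of_iso e₂.symm h₂))

theorem isPC_summand_of_bdd (m b : ℤ) (K L : DCoh.D X)
    (hb : ∀ i, b < i → IsZero (DCoh.HD L i)) (h : DCoh.IsPseudoCoherentD m (K ⊞ L)) :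
    DCoh.IsPseudoCoherentD m L := by
  have h1 : DCoh.IsPseudoCoherentD m (L ⊞ L⟦(1 : ℤ)⟧) :=
    isPC_swap m K L L (isPC_mono (by omega) h) h
  have key : ∀ k : ℕ, DCoh.IsPseudoCoherentD m (L ⊞ L⟦(2 * (k : ℤ) + 1)⟧) := by
    intro k
    induction k with
    | zero => simpa using h1
    | succ k ih =>
      have hp : DCoh.IsPseudoCoherentD (m + 1) (L⟦(2 * (k : ℤ) + 1)⟧ ⊞ L⟦(2 * (k : ℤ) + 2)⟧) := by
        refine isPC_of_iso ?_ (isPC_mono (show m - (2 * (k : ℤ) + 1) ≤ m + 1 by omega)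
          (isPC_shift h1 (2 * (k : ℤ) + 1)))
        haveI := preservesBinaryBiproducts_of_preservesBiproducts (shiftFunctor (DCoh.D X) (2 * (k : ℤ) + 1))
        exact (shiftFunctor (DCoh.D X) (2 * (k : ℤ) + 1)).mapBiprod _ _ ≪≫
          biprod.mapIso (Iso.refl _)
            ((shiftFunctorAdd' (DCoh.D X) (1 : ℤ) (2 * (k : ℤ) + 1) (2 * (k : ℤ) + 2) (by omega)).app L).symm
      have h' := isPC_swap m _ _ _ hp (isPC_of_iso (biprod.braiding _ _) ih)
      exact isPC_of_iso (biprod.mapIso (Iso.refl L)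
        ((shiftFunctorAdd' (DCoh.D X) (2 * (k : ℤ) + 2) (1 : ℤ) (2 * ((k + 1 : ℕ) : ℤ) + 1)
          (by push_cast; omega)).app L).symm) h'
  obtain ⟨k, hk⟩ : ∃ k : ℕ, b < m + 1 + (2 * (k : ℤ) + 1) := ⟨(b - m).toNat, by omega⟩
  refine isPC_obj₃ _ (binaryBiproductTriangle_distinguished (L⟦(2 * (k : ℤ) + 1)⟧) L) m
    (isPC_of_isZero_above fun i hi => ?_) (isPC_of_iso (biprod.braiding _ _) (key k))
  exact (hb ((2 * (k : ℤ) + 1) + i) (by omega)).of_iso
    (((DerivedCategory.homologyFunctor X.Modules 0).shiftIso (2 * (k : ℤ) + 1) i _ rfl).app L)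

/-- Direct summands of pseudo-coherent objects are pseudo-coherent. -/
theorem isPC_summand (m : ℤ) (K L : DCoh.D X) (h : DCoh.IsPseudoCoherentD m (K ⊞ L)) :
    DCoh.IsPseudoCoherentD m L := by
  refine isPC_local fun x => ?_
  obtain ⟨V, j, hj, v, hv, E, α, ⟨⟨a, b, hE⟩, hf⟩, hα⟩ := (isPC_iff m _).1 h x
  haveI := preservesBinaryBiproducts_of_preservesBiproducts (resD j)
  refine ⟨V, j, hj, v, hv, isPC_summand_of_bdd m (max b m) ((resD j).obj K) _ (fun i hi => ?_)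
    (isPC_of_iso ((resD j).mapBiprod K L) (isPC_res h j))⟩
  have := hα.1 i (by omega)
  have h0 : IsZero (DCoh.HD ((resD j).obj (K ⊞ L)) i) :=
    (isZero_HD_of_exactAt (ExactAt.of_isZero (hE i (Or.inr (by omega))))).of_iso
      (asIso ((DerivedCategory.homologyFunctor V.Modules i).map α)).symm
  have : Mono (((resD j) ⋙ DerivedCategory.homologyFunctor V.Modules i).map
      (biprod.inr : L ⟶ K ⊞ L)) := inferInstance
  exact h0.of_mono (((resD j) ⋙ DerivedCategory.homologyFunctor V.Modules i).map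
      (biprod.inr : L ⟶ K ⊞ L))

end Groth.Agent.PerfLib
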