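import Groth.Agent.PerfLib.TopCohomology
import Groth.Agent.PerfLib.PCohSummand

/-!
# Modules of finite type and finite presentation as pseudo-coherent objects
-/

set_option autoImplicit false
set_option linter.style.haveILetI false

universe u

open CategoryTheory CategoryTheory.Limits AlgebraicGeometry Opposite TopologicalSpace Pretriangulated
open HomologicalComplex

attribute [local instance] HasDerivedCategory.standard

namespace Groth.Agent.PerfLib

variable {X : Scheme.{u}}

set_option backward.isDefEq.respectTransparency.types false in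
theorem exists_presentation_nhd {M : X.Modules} (h : CohB1.IsFP M) (x : X) :
    ∃ (O : X.Opens) (P : (M.restrict O.ι).Presentation), x ∈ O ∧ P.IsFinite := by
  obtain ⟨σ, hσ⟩ := h.exists_quasicoherentData
  obtain ⟨i, hi⟩ : ∃ i, x ∈ σ.X i :=
    Opens.mem_iSup.mp ((((Opens.coversTop_iff (X : Type u) σ.X).mp σ.coversTop)).ge (Opens.mem_top x))
  let O : X.Opens := σ.X i
  have hf := hσ.isFinite_presentation i
  have := hf.isFiniteType_generators
  have := hf.isFiniteType_relations
  let P₁ := (σ.presentation i).map (Scheme.Modules.overEquiv O).functor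
    (((Scheme.Modules.overFunctorEquiv O).app (SheafOfModules.unit X.ringCatSheaf) ≪≫
      Scheme.Modules.restrictUnitIso O.ι).symm)
  refine ⟨O, P₁.ofIsIso ((Scheme.Modules.overFunctorEquiv O).app M).hom, hi, ?_⟩
  exact { isFiniteType_generators := ⟨(inferInstance : Finite (σ.presentation i).generators.I)⟩
          isFiniteType_relations := ⟨(inferInstance : Finite (σ.presentation i).relations.I)⟩ }

theorem isFinFree_free (I : Type u) [Finite I] :
    KFlatLib.IsFinFree (SheafOfModules.free (R := X.ringCatSheaf) I : X.Modules) := by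
  obtain ⟨n, ⟨e⟩⟩ := Finite.exists_equiv_fin I
  exact ⟨n, ⟨Sigma.whiskerEquiv (f := fun _ : I => Coh.structureModule X)
    (g := fun _ : Fin n => Coh.structureModule X) e (fun _ => Iso.refl _)⟩⟩

/-- A finite locally free module is pseudo-coherent in every degree. -/
theorem isPC_single_locFree (m : ℤ) {M : X.Modules} (hM : FlatMod.IsFinLocFree M) :
    DCoh.IsPseudoCoherentD m (DCoh.inD X M) := by
  rw [isPC_iff]
  intro x
  let E := (CochainComplex.singleFunctor X.Modules 0).obj M
  have hE : DCoh.IsStrictlyPerfect E := by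
    refine ⟨⟨0, 0, fun i hi => isZero_single_obj_X (ComplexShape.up ℤ) 0 M i (by omega)⟩, fun i => ?_⟩
    by_cases h : i = 0
    · subst h
      exact isFinLocFree_of_iso (singleObjXSelf (ComplexShape.up ℤ) 0 M).symm hM
    · exact KFlatLib.isFinLocFree_of_isFinFree (KFlatLib.isFinFree_of_isZero
        (isZero_single_obj_X (ComplexShape.up ℤ) 0 M i h))
  exact ⟨X, 𝟙 X, inferInstance, x, rfl, (resC (𝟙 X)).obj E,
    (resDQIso (𝟙 X) E).inv ≫
      (resD (𝟙 X)).map ((DerivedCategory.singleFunctorIsoCompQ X.Modules 0).inv.app M),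
    isStrictlyPerfect_res _ hE, (IAE.of_isIso _ m).comp (IAE.of_isIso _ m)⟩

/-- A module with an epimorphism from a finite free one, near every point, is `0`-pseudo-coherent. -/
theorem isPC_zero_of_local {M : X.Modules}
    (h : ∀ x : X, ∃ (U : X.Opens) (_ : x ∈ U) (F : (U : Scheme.{u}).Modules) (p : F ⟶ M.restrict U.ι),
      KFlatLib.IsFinFree F ∧ Epi p) : DCoh.IsPseudoCoherentD 0 (DCoh.inD X M) := by
  refine isPC_local fun x => ?_
  obtain ⟨U, hx, F, p, hF, hp⟩ := h x
  refine ⟨U, U.ι, inferInstance, ⟨x, hx⟩, rfl, ?_⟩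
  obtain ⟨e⟩ : Nonempty ((resD U.ι).obj (DCoh.inD X M) ≅ DCoh.inD _ (M.restrict U.ι)) :=
    ⟨(Scheme.Modules.restrictFunctor U.ι).mapDerivedCategorySingleFunctor 0 |>.app M⟩
  refine isPC_of_iso e.symm ?_
  rw [isPC_iff]
  intro y
  obtain ⟨V, j, hj, v, hv, E, α, hE, hα⟩ :=
    (isPC_iff 0 _).1 (isPC_single_locFree 0 (KFlatLib.isFinLocFree_of_isFinFree hF)) y
  have hs : IAE ((DerivedCategory.singleFunctor (U : Scheme.{u}).Modules 0).map p) 0 := by
    refine ⟨fun i hi => ?_, ?_⟩
    · have h1 := DerivedCategory.isZero_of_isLE ((DerivedCategory.singleFunctor _ 0).obj F) 0 i hi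
      have h2 := DerivedCategory.isZero_of_isLE
        ((DerivedCategory.singleFunctor _ 0).obj (M.restrict U.ι)) 0 i hi
      exact ⟨0, h1.eq_of_src _ _, h2.eq_of_src _ _⟩
    · exact ((MorphismProperty.epimorphisms _).arrow_mk_iso_iff (Arrow.isoMk
        ((DerivedCategory.singleFunctorCompHomologyFunctorIso _ 0).app F)
        ((DerivedCategory.singleFunctorCompHomologyFunctorIso _ 0).app _)
        ((DerivedCategory.singleFunctorCompHomologyFunctorIso _ 0).hom.naturality p).symm)).2 hp
  exact ⟨V, j, hj, v, hv, E,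
    α ≫ (resD j).map ((DerivedCategory.singleFunctor (U : Scheme.{u}).Modules 0).map p),
    hE, hα.comp (hs.map (res j))⟩

theorem isPC_zero_of_isFT {M : X.Modules} (h : CohB1.IsFT M) :
    DCoh.IsPseudoCoherentD 0 (DCoh.inD X M) := by
  refine isPC_zero_of_local fun x => ?_
  obtain ⟨U, hx, n, s, hs⟩ := QCohLib.exists_genOn_of_isFT h x
  let σ := (QCohLib.genTop_restrict hs).generatingSections
  exact ⟨U, hx, _, σ.π, @isFinFree_free (U : Scheme.{u}) σ.I (inferInstanceAs (Finite (ULift.{u} (Fin n)))),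
    σ.epi⟩

theorem isPC_neg_one_of_isFP {M : X.Modules} (h : CohB1.IsFP M) :
    DCoh.IsPseudoCoherentD (-1) (DCoh.inD X M) := by
  refine isPC_local fun x => ?_
  obtain ⟨O, P, hxO, hP⟩ := exists_presentation_nhd h x
  refine ⟨O, O.ι, inferInstance, ⟨x, hxO⟩, rfl, isPC_of_iso
    ((Scheme.Modules.restrictFunctor O.ι).mapDerivedCategorySingleFunctor 0 |>.app M).symm ?_⟩
  have := hP.isFiniteType_generators
  have := hP.isFiniteType_relations
  have hg : KFlatLib.IsFinFree (SheafOfModules.free (R := (O : Scheme.{u}).ringCatSheaf) P.generators.I :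
      (O : Scheme.{u}).Modules) := isFinFree_free _
  let g : (SheafOfModules.free (R := (O : Scheme.{u}).ringCatSheaf) P.generators.I :
      (O : Scheme.{u}).Modules) ⟶ M.restrict O.ι := P.generators.π
  have hgepi : Epi g := P.generators.epi
  have hk : CohB1.IsFT (kernel g) := by
    let r : (SheafOfModules.free (R := (O : Scheme.{u}).ringCatSheaf) P.relations.I :
      (O : Scheme.{u}).Modules) ⟶ kernel g := P.relations.π
    have hr : Epi r := P.relations.epi
    obtain ⟨n, ⟨e⟩⟩ := @isFinFree_free (O : Scheme.{u}) P.relations.I (inferInstance : Finite P.relations.I)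
    have he : Epi (e.inv ≫ r) := epi_comp' inferInstance hr
    exact @QCohLib.isFT_of_epi (O : Scheme.{u}) _ _ (e.inv ≫ r) he (isFT_freeModule _ n)
  let S : ShortComplex (O : Scheme.{u}).Modules :=
    ShortComplex.mk (kernel.ι g) g (kernel.condition g)
  have hS : S.ShortExact :=
    { exact := ShortComplex.exact_kernel g
      mono_f := inferInstanceAs (Mono (kernel.ι g))
      epi_g := hgepi }
  exact isPC_obj₃ _ hS.singleTriangle_distinguished (-1)
    (by rw [neg_add_cancel]; exact isPC_zero_of_isFT hk)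
    (isPC_single_locFree (-1) (KFlatLib.isFinLocFree_of_isFinFree hg))

theorem isFT_HD_top {K : DCoh.D X} {m : ℤ} (hK : DCoh.IsPseudoCoherentD m K)
    (h : ∀ i, m < i → IsZero (DCoh.HD K i)) : CohB1.IsFT (DCoh.HD K m) :=
  isFT_of_local fun x => by
    obtain ⟨W, j, hj, v, N, q, hv, hN, hq, -⟩ := exists_model_top le_rfl hK h x
    exact ⟨W, j, hj, v, hv, N, q, hq, hN⟩

theorem isFP_HD_top {K : DCoh.D X} {m : ℤ} (hK : DCoh.IsPseudoCoherentD m K)
    (h : ∀ i, m + 1 < i → IsZero (DCoh.HD K i)) : CohB1.IsFP (DCoh.HD K (m + 1)) :=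
  isFP_of_local fun x => by
    obtain ⟨W, j, hj, v, N, q, hv, hN, -, hiso⟩ :=
      exists_model_top (show m ≤ m + 1 by omega) hK h x
    haveI := hiso (by omega)
    exact ⟨W, j, hj, v, hv, hN.of_iso (asIso q)⟩

theorem isFP_of_iso' {M N : X.Modules} (e : M ≅ N) (h : CohB1.IsFP M) : CohB1.IsFP N :=
  (SheafOfModules.isFinitePresentation (R := X.ringCatSheaf)).prop_of_iso e h

end Groth.Agent.PerfLib
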