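import Groth.Agent.KFlatLib.FPLift
import Groth.Agent.KFlatLib.PerfectPull
import Groth.Agent.RpushLib.Sections

/-!
# Local lifting of maps out of finite locally free modules
-/

set_option autoImplicit false

universe u

open CategoryTheory CategoryTheory.Limits AlgebraicGeometry TopologicalSpace Opposite

namespace Groth.Agent.PerfLib

open KFlatLib

variable {X : Scheme.{u}}

/-- Local surjectivity of epimorphisms of modules. -/
theorem exists_section_lift {M N : X.Modules} (p : M ⟶ N) [Epi p] {W : X.Opens}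
    (s : Γ(N, W)) (x : X) (hx : x ∈ W) :
    ∃ (U : X.Opens) (hU : U ≤ W) (m : Γ(M, U)),
      x ∈ U ∧ p.app U m = N.presheaf.map (homOfLE hU).op s := by
  have : Epi ((DerSch.stalkFunctor X x).map p) := inferInstance
  obtain ⟨a, ha⟩ := (ModuleCat.epi_iff_surjective _).mp this (N.presheaf.germ W x hx s)
  obtain ⟨U₁, hx₁, m, rfl⟩ := TopCat.Presheaf.exists_germ_eq M.presheaf (x := x) a
  have h : N.presheaf.germ U₁ x hx₁ (p.app U₁ m) = N.presheaf.germ W x hx s := by
    rw [← ha]
    exact (DerSch.stalkFunctor_map_germ x p U₁ hx₁ m).symm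
  obtain ⟨U, hxU, i₁, i₂, hU⟩ := TopCat.Presheaf.germ_eq N.presheaf x hx₁ hx _ _ h
  refine ⟨U, leOfHom i₂, M.presheaf.map i₁.op m, hxU, ?_⟩
  refine Eq.trans ?_ hU
  exact QCohLib.app_map p i₁ m

/-- Maps out of a finite free module lift locally through epimorphisms. -/
theorem exists_lift_free {q : ℕ} {M N : X.Modules} (f : FlatMod.freeMod X q ⟶ N) (p : M ⟶ N)
    [Epi p] (x : X) :
    ∃ (U : X.Opens) (_ : x ∈ U)
      (k : (Scheme.Modules.restrictFunctor U.ι).obj (FlatMod.freeMod X q) ⟶
        (Scheme.Modules.restrictFunctor U.ι).obj M),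
      k ≫ (Scheme.Modules.restrictFunctor U.ι).map p =
        (Scheme.Modules.restrictFunctor U.ι).map f := by
  let s : Fin q → Γ(N, ⊤) := fun j => freeUEquiv ⊤ N
    ((structureIso X).hom ≫ Sigma.ι (fun _ : Fin q => Coh.structureModule X) j ≫ f)
  choose W hW m hxW hm using fun j => exists_section_lift p (s j) x (by trivial)
  let U : X.Opens := Finset.univ.inf W
  have hU : x ∈ U := Finset.inf_induction (p := fun V : X.Opens => x ∈ V) trivial
    (fun _ h₁ _ h₂ => ⟨h₁, h₂⟩) fun i _ => hxW i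
  have hle : ∀ j, U ≤ W j := fun j => Finset.inf_le (Finset.mem_univ j)
  let H : (∐ fun _ : Fin q => freeU U) ⟶ M :=
    Sigma.desc fun j => secMap (M.presheaf.map (homOfLE (hle j)).op (m j))
  have hH : H ≫ p = resFree U q ≫ f := Sigma.hom_ext _ _ fun j => by
    simp only [H, resFree, Sigma.ι_map_assoc, Sigma.ι_desc_assoc]
    rw [Category.assoc (resU _), resU_comp, secMap_comp]
    refine congrArg secMap ?_
    rw [QCohLib.app_map, hm, QCohLib.map_map']
    rfl
  have := isIso_pullback_resFree U q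
  let Φ := Scheme.Modules.pullback U.ι
  let η := Scheme.Modules.restrictFunctorIsoPullback U.ι
  refine ⟨U, hU, η.hom.app _ ≫ inv (Φ.map (resFree U q)) ≫ Φ.map H ≫ η.inv.app M, ?_⟩
  simp only [Category.assoc]
  rw [← η.inv.naturality p, ← Functor.map_comp_assoc, hH, Functor.map_comp_assoc,
    IsIso.inv_hom_id_assoc, η.inv.naturality f, Iso.hom_inv_id_app_assoc]

/-- Maps out of a finite locally free module lift locally through epimorphisms. -/
theorem exists_lift_locFree {E M N : X.Modules} (hE : FlatMod.IsFinLocFree E) (f : E ⟶ N)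
    (p : M ⟶ N) [Epi p] (x : X) :
    ∃ (V : Scheme.{u}) (j : V ⟶ X) (_ : IsOpenImmersion j) (v : V)
      (k : (Scheme.Modules.restrictFunctor j).obj E ⟶ (Scheme.Modules.restrictFunctor j).obj M),
      j v = x ∧ k ≫ (Scheme.Modules.restrictFunctor j).map p =
        (Scheme.Modules.restrictFunctor j).map f := by
  obtain ⟨W, n, hxW, ⟨e⟩⟩ := hE x
  let R := Scheme.Modules.restrictFunctor W.ι
  have : Epi (R.map p) := inferInstance
  obtain ⟨U, hU, k, hk⟩ := exists_lift_free (e.inv ≫ R.map f) (R.map p) (⟨x, hxW⟩ : W)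
  let R' := Scheme.Modules.restrictFunctor U.ι
  let c := Scheme.Modules.restrictFunctorComp U.ι W.ι
  refine ⟨U, U.ι ≫ W.ι, inferInstance, ⟨⟨x, hxW⟩, hU⟩,
    c.hom.app E ≫ R'.map e.hom ≫ k ≫ c.inv.app M, rfl, ?_⟩
  simp only [Category.assoc]
  rw [← c.inv.naturality p]
  change c.hom.app E ≫ R'.map e.hom ≫ k ≫ R'.map (R.map p) ≫ c.inv.app N = _
  rw [reassoc_of% hk, ← Functor.map_comp_assoc, Iso.hom_inv_id_assoc]
  exact (congrArg _ (c.inv.naturality f)).trans (Iso.hom_inv_id_app_assoc c E _)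

end Groth.Agent.PerfLib
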