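import Groth.Agent.PerfLib.NullLocal
import Groth.Agent.KFlatLib.PCohPull
import Mathlib.Algebra.Homology.HomotopyCategory.MappingCone

/-!
# Local lifting through quasi-isomorphisms out of strictly perfect complexes
-/

set_option autoImplicit false

universe u v w

open CategoryTheory CategoryTheory.Limits AlgebraicGeometry Opposite
open HomologicalComplex CochainComplex CochainComplex.HomComplex

attribute [local instance] HasDerivedCategory.standard

namespace Groth.Agent.PerfLib

/-- A homotopy from `α ≫ inr f` to zero gives a lift of `α` through `f` up to homotopy. -/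
theorem exists_lift_of_null {C : Type u} [Category.{v} C] [Preadditive C] [HasBinaryBiproducts C]
    {E F G : CochainComplex C ℤ} (α : E ⟶ F) (f : G ⟶ F)
    (H : Homotopy (α ≫ mappingCone.inr f) 0) :
    ∃ β : E ⟶ G, Nonempty (Homotopy (β ≫ f) α) := by
  obtain ⟨z, hz⟩ := Cochain.equivHomotopy _ _ H
  simp only [Cochain.ofHom_zero, add_zero] at hz
  let a : Cochain E G 0 := z.comp (mappingCone.fst f).1 (neg_add_cancel 1)
  let b : Cochain E F (-1) := z.comp (mappingCone.snd f) (add_zero (-1))
  have hzab : mappingCone.liftCochain f a b (neg_add_cancel 1) = z := by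
    simp [mappingCone.ext_cochain_to_iff f _ _ (neg_add_cancel 1), a, b]
  rw [← hzab, mappingCone.δ_liftCochain f a b (neg_add_cancel 1) 1 (zero_add 1)] at hz
  have h1 := congrArg (fun c => c.comp (mappingCone.fst f).1 (zero_add 1)) hz
  have h2 := congrArg (fun c => c.comp (mappingCone.snd f) (add_zero 0)) hz
  simp at h1 h2
  let β : E ⟶ G := Cocycle.homOf (Cocycle.mk a 1 (zero_add 1) h1)
  refine ⟨β, ⟨(Cochain.equivHomotopy _ _).symm ⟨-b, ?_⟩⟩⟩
  rw [Cochain.ofHom_comp, δ_neg, h2]
  simp [β]

variable {X : Scheme.{u}}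

theorem exactAt_of_isZero_HD {C : CochainComplex X.Modules ℤ} {i : ℤ}
    (h : IsZero (DCoh.HD (DCoh.toD X C) i)) : C.ExactAt i := by
  rw [exactAt_iff_isZero_homology]
  exact h.of_iso ((DerivedCategory.homologyFunctorFactors X.Modules i).app C).symm

theorem isZero_HD_of_exactAt {C : CochainComplex X.Modules ℤ} {i : ℤ} (h : C.ExactAt i) :
    IsZero (DCoh.HD (DCoh.toD X C) i) :=
  ((exactAt_iff_isZero_homology C i).1 h).of_iso
    ((DerivedCategory.homologyFunctorFactors X.Modules i).app C)

/-- The cone of a map which is iso above `a` and epi at `a` is exact in degrees `≥ a`. -/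
theorem exactAt_cone {F G : CochainComplex X.Modules ℤ} (f : G ⟶ F) (a : ℤ)
    (hf : ∀ j : ℤ, a < j → IsIso (HomologicalComplex.homologyMap f j))
    (hfa : Epi (HomologicalComplex.homologyMap f a)) (i : ℤ) (hi : a ≤ i) :
    (mappingCone f).ExactAt i := by
  have nat : ∀ j, (DerivedCategory.homologyFunctor X.Modules j).map (DerivedCategory.Q.map f) =
      (DerivedCategory.homologyFunctorFactors X.Modules j).hom.app G ≫
        (HomologicalComplex.homologyFunctor X.Modules (ComplexShape.up ℤ) j).map f ≫
        (DerivedCategory.homologyFunctorFactors X.Modules j).inv.app F := fun j => by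
    have h := (DerivedCategory.homologyFunctorFactors X.Modules j).hom.naturality f
    dsimp at h
    rw [← reassoc_of% h, Iso.hom_inv_id_app]
    exact (Category.comp_id _).symm
  refine exactAt_of_isZero_HD ((KFlatLib.isoAboveEpiAt_iff
    (DerivedCategory.Q.mapTriangle.obj (mappingCone.triangle f))
    ((DerivedCategory.mem_distTriang_iff _).2 ⟨_, _, f, ⟨Iso.refl _⟩⟩) a).1 ⟨fun j hj => ?_, ?_⟩ i hi)
  · change IsIso ((DerivedCategory.homologyFunctor X.Modules j).map (DerivedCategory.Q.map f))
    rw [nat]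
    have : IsIso ((HomologicalComplex.homologyFunctor X.Modules (ComplexShape.up ℤ) j).map f) := hf j hj
    infer_instance
  · change Epi ((DerivedCategory.homologyFunctor X.Modules a).map (DerivedCategory.Q.map f))
    rw [nat]
    have : Epi ((HomologicalComplex.homologyFunctor X.Modules (ComplexShape.up ℤ) a).map f) := hfa
    infer_instance

/-- Local lifting up to homotopy through a map whose cone is exact in degrees `≥ a`. -/
theorem exists_lift_local {E F G : CochainComplex X.Modules ℤ} (α : E ⟶ F) (f : G ⟶ F)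
    (hE : DCoh.IsStrictlyPerfect E) (a : ℤ) (hEa : ∀ i, i < a → IsZero (E.X i))
    (hC : ∀ i, a ≤ i → (mappingCone f).ExactAt i) (x : X) :
    ∃ (V : Scheme.{u}) (j : V ⟶ X) (_ : IsOpenImmersion j) (v : V)
      (β : (resC j).obj E ⟶ (resC j).obj G),
      j v = x ∧ Nonempty (Homotopy (β ≫ (resC j).map f) ((resC j).map α)) := by
  obtain ⟨V, j, hj, v, hv, ⟨H⟩⟩ :=
    exists_null_local (α ≫ mappingCone.inr f) hE a hEa hC x
  have e : (resC j).map (α ≫ mappingCone.inr f) ≫
      (mappingCone.mapHomologicalComplexIso f (res j)).hom =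
        (resC j).map α ≫ mappingCone.inr ((resC j).map f) := by
    rw [Functor.map_comp, Category.assoc, mappingCone.map_inr]
  obtain ⟨β, hβ⟩ := exists_lift_of_null ((resC j).map α) ((resC j).map f)
    ((Homotopy.ofEq e.symm).trans ((H.compRight _).trans (Homotopy.ofEq zero_comp)))
  exact ⟨V, j, hj, v, β, hv, hβ⟩

/-- The version with an open subscheme. -/
theorem exists_lift_local_opens {E F G : CochainComplex X.Modules ℤ} (α : E ⟶ F) (f : G ⟶ F)
    (hE : DCoh.IsStrictlyPerfect E) (a : ℤ) (hEa : ∀ i, i < a → IsZero (E.X i))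
    (hC : ∀ i, a ≤ i → (mappingCone f).ExactAt i) (x : X) :
    ∃ (V : X.Opens) (β : (resC V.ι).obj E ⟶ (resC V.ι).obj G),
      x ∈ V ∧ Nonempty (Homotopy (β ≫ (resC V.ι).map f) ((resC V.ι).map α)) := by
  obtain ⟨V, j, hj, v, β, hv, ⟨H⟩⟩ := exists_lift_local α f hE a hEa hC x
  let e := (Scheme.Hom.isoOpensRange j).inv
  let ρ := resCComp e j ≪≫ Iso.refl _
  let c := resCComp e j
  have hd : e ≫ j = j.opensRange.ι := Scheme.Hom.isoOpensRange_inv_comp j
  let d := (resCCongr hd).symm ≪≫ c
  refine ⟨j.opensRange, d.hom.app E ≫ (resC e).map β ≫ d.inv.app G, ⟨v, hv⟩, ⟨?_⟩⟩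
  have h1 : (d.hom.app E ≫ (resC e).map β ≫ d.inv.app G) ≫ (resC j.opensRange.ι).map f =
      d.hom.app E ≫ (resC e).map (β ≫ (resC j).map f) ≫ d.inv.app F := by
    simp only [Category.assoc]
    rw [← d.inv.naturality f, Functor.comp_map, ← Functor.map_comp_assoc]
  have h2 : d.hom.app E ≫ (resC e).map ((resC j).map α) ≫ d.inv.app F =
      (resC j.opensRange.ι).map α :=
    (congrArg _ (d.inv.naturality α)).trans (Iso.hom_inv_id_app_assoc d E _)
  exact (Homotopy.ofEq h1).trans (((((res e).mapHomotopy H).compRight _).compLeft _).trans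
    (Homotopy.ofEq h2))

end Groth.Agent.PerfLib
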