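import Groth.Agent.PerfLib.Restrict
import Mathlib.Algebra.Homology.Homotopy
import Mathlib.Algebra.Homology.ShortComplex.ExactFunctor

/-!
# Maps from strictly perfect complexes to locally acyclic complexes are locally null-homotopic
-/

set_option autoImplicit false

universe u

open CategoryTheory CategoryTheory.Limits AlgebraicGeometry TopologicalSpace Opposite
open HomologicalComplex

namespace Groth.Agent.PerfLib

theorem exactAt_res {X V : Scheme.{u}} (j : V ⟶ X) [IsOpenImmersion j]
    {F : CochainComplex X.Modules ℤ} {i : ℤ} (h : F.ExactAt i) : ((resC j).obj F).ExactAt i :=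
  ShortComplex.Exact.map (S := F.sc i) h (res j)

/-- One step: kill the map in degree `b`. -/
theorem null_step {X : Scheme.{u}} {E F : CochainComplex X.Modules ℤ}
    (hE : ∀ i, FlatMod.IsFinLocFree (E.X i)) (α : E ⟶ F) (b : ℤ) (hF : F.ExactAt b)
    (hα : ∀ i, b < i → α.f i = 0) (x : X) :
    ∃ (V : Scheme.{u}) (j : V ⟶ X) (_ : IsOpenImmersion j) (v : V)
      (β : (resC j).obj E ⟶ (resC j).obj F),
      j v = x ∧ Nonempty (Homotopy ((resC j).map α) β) ∧ ∀ i, b ≤ i → β.f i = 0 := by
  have hS : (ShortComplex.mk (F.d (b - 1) b) (F.d b (b + 1)) (F.d_comp_d _ _ _)).Exact :=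
    (F.exactAt_iff' (b - 1) b (b + 1) (by simp) (by simp)).1 hF
  have := hS.epi_kernelLift
  have w : α.f b ≫ F.d b (b + 1) = 0 := by rw [α.comm, hα (b + 1) (by omega), comp_zero]
  obtain ⟨V, j, hj, v, k, hv, hk⟩ := exists_lift_locFree (hE b)
    (kernel.lift (F.d b (b + 1)) (α.f b) w)
    (kernel.lift (F.d b (b + 1)) (F.d (b - 1) b) (F.d_comp_d _ _ _)) x
  have hk' : k ≫ (res j).map (F.d (b - 1) b) = (res j).map (α.f b) := by
    have := congrArg (· ≫ (res j).map (kernel.ι (F.d b (b + 1)))) hk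
    simpa only [Category.assoc, ← Functor.map_comp, kernel.lift_ι] using this
  let h : ∀ p q : ℤ, (ComplexShape.up ℤ).Rel q p →
      (((resC j).obj E).X p ⟶ ((resC j).obj F).X q) := fun p q hpq =>
    if hp : p = b then
      eqToHom (by rw [hp]; rfl) ≫ k ≫ eqToHom (by
        have : q = b - 1 := by simp at hpq; omega
        rw [this]; rfl)
    else 0
  refine ⟨V, j, hj, v, (resC j).map α - Homotopy.nullHomotopicMap' h, hv, ⟨?_⟩, fun i hi => ?_⟩
  · exact Homotopy.equivSubZero.symm
      ((Homotopy.ofEq (sub_sub_cancel _ _)).trans (Homotopy.nullHomotopy' h))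
  · rw [HomologicalComplex.sub_f_apply,
      Homotopy.nullHomotopicMap'_f (k₂ := i - 1) (k₁ := i) (k₀ := i + 1) (by simp) (by simp)]
    have hne : i + 1 ≠ b := by omega
    simp only [h, dif_neg hne, comp_zero, zero_add]
    rcases hi.eq_or_lt with hb | hb
    · subst hb
      rw [dif_pos rfl]
      change (res j).map (α.f b) - (𝟙 _ ≫ k ≫ 𝟙 _) ≫ (res j).map (F.d (b - 1) b) = 0
      rw [Category.id_comp, Category.comp_id, hk', sub_self]
    · rw [dif_neg (by omega : ¬ i = b), zero_comp, sub_zero]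
      change (res j).map (α.f i) = 0
      rw [hα i hb, Functor.map_zero]

theorem null_local_aux (a : ℤ) : ∀ (k : ℕ) {X : Scheme.{u}} {E F : CochainComplex X.Modules ℤ}
    (α : E ⟶ F) (_ : ∀ i, FlatMod.IsFinLocFree (E.X i)) (_ : ∀ i, a ≤ i → F.ExactAt i)
    (_ : ∀ i, i < a → IsZero (E.X i)) (_ : ∀ i, a + k ≤ i → α.f i = 0) (x : X),
    ∃ (V : Scheme.{u}) (j : V ⟶ X) (_ : IsOpenImmersion j) (v : V),
      j v = x ∧ Nonempty (Homotopy ((resC j).map α) 0) := by
  intro k
  induction k with
  | zero =>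
    intro X E F α hE hF hlo hhi x
    have : α = 0 := by
      ext i : 1
      rcases lt_or_ge i a with h | h
      · exact (hlo i h).eq_of_src _ _
      · exact hhi i (by omega)
    subst this
    exact ⟨X, 𝟙 X, inferInstance, x, rfl, ⟨Homotopy.ofEq (Functor.map_zero _ _ _)⟩⟩
  | succ k ih =>
    intro X E F α hE hF hlo hhi x
    obtain ⟨V, j, hj, v, β, hv, ⟨hβ⟩, hz⟩ :=
      null_step hE α (a + k) (hF _ (by omega)) (fun i hi => hhi i (by push_cast; omega)) x
    obtain ⟨W, g, hg, w, hw, ⟨hgβ⟩⟩ := ih β (fun i => isFinLocFree_res j (hE i))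
      (fun i hi => exactAt_res j (hF i hi)) (fun i hi => (res j).map_isZero (hlo i hi)) hz v
    refine ⟨W, g ≫ j, inferInstance, w, by rw [← hv, ← hw]; rfl, ⟨?_⟩⟩
    have h0 : (resC g).map ((resC j).map (0 : E ⟶ F)) = 0 := by simp
    exact (homotopyComp g j (((res g).mapHomotopy hβ).trans
      (hgβ.trans (Homotopy.ofEq h0.symm)))).trans (Homotopy.ofEq (Functor.map_zero _ _ _))

/-- Maps from a bounded complex of finite locally free modules to a complex which is exact in
degrees `≥ a` are locally null-homotopic, if the source vanishes below `a`. -/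
theorem exists_null_local {X : Scheme.{u}} {E F : CochainComplex X.Modules ℤ} (α : E ⟶ F)
    (hE : DCoh.IsStrictlyPerfect E) (a : ℤ) (hEa : ∀ i, i < a → IsZero (E.X i))
    (hF : ∀ i, a ≤ i → F.ExactAt i) (x : X) :
    ∃ (V : Scheme.{u}) (j : V ⟶ X) (_ : IsOpenImmersion j) (v : V),
      j v = x ∧ Nonempty (Homotopy ((resC j).map α) 0) := by
  obtain ⟨⟨c, b, hv⟩, hf⟩ := hE
  exact null_local_aux a (b + 1 - a).toNat α hf hF hEa
    (fun i hi => (hv i (Or.inr (by omega))).eq_of_src _ _) x

/-- An open immersion is, up to isomorphism of the source, the inclusion of its range. -/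
theorem exists_homotopy_opens {X : Scheme.{u}} {E F : CochainComplex X.Modules ℤ} (α β : E ⟶ F)
    {V : Scheme.{u}} (j : V ⟶ X) [IsOpenImmersion j]
    (h : Homotopy ((resC j).map α) ((resC j).map β)) :
    Nonempty (Homotopy ((resC j.opensRange.ι).map α) ((resC j.opensRange.ι).map β)) :=
  ⟨homotopyCongr (Scheme.Hom.isoOpensRange_inv_comp j)
    (homotopyComp (Scheme.Hom.isoOpensRange j).inv j ((res _).mapHomotopy h))⟩

end Groth.Agent.PerfLib
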