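import Groth.Agent.PerfLib.PCoh
import Groth.Agent.PerfLib.Coherent

/-!
# The top cohomology sheaves of pseudo-coherent objects
-/

set_option autoImplicit false
set_option linter.style.haveILetI false

universe u

open CategoryTheory CategoryTheory.Limits AlgebraicGeometry Opposite TopologicalSpace
open HomologicalComplex

attribute [local instance] HasDerivedCategory.standard

namespace Groth.Agent.PerfLib

open KFlatLib

variable {X V : Scheme.{u}}

/-- A cokernel of a map of finite free modules. -/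
def FPFree (M : X.Modules) : Prop :=
  ∃ (A F : X.Modules) (f : A ⟶ F), IsFinFree A ∧ IsFinFree F ∧ Nonempty (cokernel f ≅ M)

theorem FPFree.of_iso {M N : X.Modules} (e : M ≅ N) (h : FPFree M) : FPFree N := by
  obtain ⟨A, F, f, hA, hF, ⟨i⟩⟩ := h
  exact ⟨A, F, f, hA, hF, ⟨i ≪≫ e⟩⟩

theorem FPFree.res (j : V ⟶ X) [IsOpenImmersion j] {M : X.Modules} (h : FPFree M) :
    FPFree ((PerfLib.res j).obj M) := by
  obtain ⟨A, F, f, hA, hF, ⟨i⟩⟩ := h
  exact ⟨_, _, (PerfLib.res j).map f, isFinFree_res j hA, isFinFree_res j hF,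
    ⟨(PreservesCokernel.iso (PerfLib.res j) f).symm ≪≫ (PerfLib.res j).mapIso i⟩⟩

/-- The cokernel of a map from a free module to a retract of a free module. -/
theorem FPFree.of_retract {A M F : X.Modules} (g : A ⟶ M) (i : M ⟶ F) (r : F ⟶ M)
    (hir : i ≫ r = 𝟙 M) (hA : IsFinFree A) (hF : IsFinFree F) : FPFree (cokernel g) := by
  refine ⟨A ⊞ F, F, biprod.desc (g ≫ i) (𝟙 F - r ≫ i), isFinFree_biprod hA hF, hF,
    ⟨{ hom := cokernel.desc _ (r ≫ cokernel.π g) ?_
       inv := cokernel.desc _ (i ≫ cokernel.π _) ?_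
       hom_inv_id := ?_
       inv_hom_id := ?_ }⟩⟩
  · apply biprod.hom_ext'
    · simp [reassoc_of% hir]
    · simp [reassoc_of% hir]
  · have h := congrArg (biprod.inl ≫ ·) (cokernel.condition (biprod.desc (g ≫ i) (𝟙 F - r ≫ i)))
    simp only [biprod.inl_desc_assoc, comp_zero, Category.assoc] at h
    exact h
  · apply coequalizer.hom_ext
    have h := congrArg (biprod.inr ≫ ·) (cokernel.condition (biprod.desc (g ≫ i) (𝟙 F - r ≫ i)))
    simp only [biprod.inr_desc_assoc, comp_zero, Preadditive.sub_comp, Category.id_comp,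
      Category.assoc] at h
    simp only [cokernel.π_desc_assoc, Category.assoc, cokernel.π_desc, Category.comp_id]
    exact (sub_eq_zero.mp h).symm
  · apply coequalizer.hom_ext
    simp only [cokernel.π_desc_assoc, Category.assoc, cokernel.π_desc, Category.comp_id,
      reassoc_of% hir]

/-- A finite free module is `free I` for a finite index type. -/
theorem exists_free_iso {M : X.Modules} (h : IsFinFree M) :
    ∃ (I : Type u) (_ : Finite I),
      Nonempty (M ≅ (SheafOfModules.free (R := X.ringCatSheaf) I : X.Modules)) := by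
  obtain ⟨n, ⟨e⟩⟩ := h
  exact ⟨ULift.{u} (Fin n), inferInstance, ⟨e ≪≫ Sigma.whiskerEquiv
    (f := fun _ : Fin n => Coh.structureModule X)
    (g := fun _ : ULift.{u} (Fin n) => Coh.structureModule X) Equiv.ulift.symm (fun _ => Iso.refl _)⟩⟩

theorem FPFree.presentation {M : X.Modules} (h : FPFree M) :
    ∃ P : M.Presentation, P.IsFinite := by
  obtain ⟨A, F, f, hA, hF, ⟨e⟩⟩ := h
  obtain ⟨I, hI, ⟨a⟩⟩ := exists_free_iso hA
  obtain ⟨J, hJ, ⟨b⟩⟩ := exists_free_iso hF
  let f' := a.inv ≫ f ≫ b.hom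
  let g' := b.inv ≫ cokernel.π f ≫ e.hom
  have w : f' ≫ g' = 0 := by simp [f', g']
  have hc : IsColimit (CokernelCofork.ofπ g' w) :=
    CokernelCofork.IsColimit.ofπ _ _
      (fun k hk => e.inv ≫ cokernel.desc f (b.hom ≫ k) (by
        rw [← cancel_epi a.inv, comp_zero]; simpa [f'] using hk))
      (fun k hk => by simp [g'])
      (fun k hk l hl => by
        rw [← cancel_epi e.hom, Iso.hom_inv_id_assoc]
        apply coequalizer.hom_ext
        simp only [cokernel.π_desc]
        rw [← hl]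
        simp [g'])
  exact ⟨SheafOfModules.presentationOfIsCokernelFree (R := X.ringCatSheaf) f' g' w hc,
    { isFiniteType_generators := ⟨(inferInstance : Finite J)⟩
      isFiniteType_relations := ⟨(inferInstance : Finite I)⟩ }⟩

theorem FPFree.isFT {M : X.Modules} (h : FPFree M) : CohB1.IsFT M := by
  obtain ⟨A, F, f, hA, ⟨n, ⟨e⟩⟩, ⟨i⟩⟩ := h
  exact QCohLib.isFT_of_epi (e.inv ≫ cokernel.π f ≫ i.hom) (isFT_freeModule X n)

/-- Passing to an open subscheme. -/
theorem exists_opens_of_local {Q : ∀ {Z : Scheme.{u}}, Z.Modules → Prop} {M : X.Modules}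
    (hres : ∀ {Z W : Scheme.{u}} (k : W ⟶ Z) [IsOpenImmersion k] {N : Z.Modules},
      Q N → Q ((PerfLib.res k).obj N))
    (hiso : ∀ {Z : Scheme.{u}} {N N' : Z.Modules}, (N ≅ N') → Q N → Q N')
    {x : X} {W : Scheme.{u}} (j : W ⟶ X) [IsOpenImmersion j] {v : W} (hv : j v = x)
    (h : Q ((PerfLib.res j).obj M)) : ∃ U : X.Opens, x ∈ U ∧ Q (M.restrict U.ι) :=
  ⟨j.opensRange, ⟨v, hv⟩, hiso
    ((Scheme.Modules.restrictFunctorComp (Scheme.Hom.isoOpensRange j).inv j).symm.app M ≪≫
      (Scheme.Modules.restrictFunctorCongr (Scheme.Hom.isoOpensRange_inv_comp j)).app M)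
    (hres (Scheme.Hom.isoOpensRange j).inv h)⟩

theorem isFP_of_local {M : X.Modules}
    (h : ∀ x : X, ∃ (W : Scheme.{u}) (j : W ⟶ X) (_ : IsOpenImmersion j) (v : W),
      j v = x ∧ FPFree ((PerfLib.res j).obj M)) : CohB1.IsFP M := by
  have h' : ∀ x : X, ∃ U : X.Opens, x ∈ U ∧ FPFree (M.restrict U.ι) := fun x => by
    obtain ⟨W, j, hj, v, hv, hM⟩ := h x
    exact exists_opens_of_local (Q := fun {_} N => FPFree N) (fun k _ _ hN => hN.res k)
      (fun e hN => hN.of_iso e) j hv hM
  choose U hU hM using h'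
  choose P hP using fun x => (hM x).presentation
  refine SheafOfModules.IsFinitePresentation.mk (R := X.ringCatSheaf)
    ⟨({ I := X
        X := U
        coversTop := (Opens.coversTop_iff (X : Type u) U).mpr
          (eq_top_iff.mpr fun p _ => Opens.mem_iSup.mpr ⟨p, hU p⟩)
        presentation := fun p => QCohLib.overPresentation M (U p) (P p) } :
        SheafOfModules.QuasicoherentData.{u} (R := X.ringCatSheaf) M), ?_⟩
  exact SheafOfModules.QuasicoherentData.IsFinitePresentation.mk (R := X.ringCatSheaf)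
    fun (p : X) => QCohLib.isFinite_overPresentation M (U p) (P p) (hP p)

/-- Restriction commutes with homology. -/
noncomputable def resHomologyIso (j : V ⟶ X) [IsOpenImmersion j] (E : CochainComplex X.Modules ℤ)
    (i : ℤ) : ((resC j).obj E).homology i ≅ (PerfLib.res j).obj (E.homology i) :=
  (E.sc i).mapHomologyIso (PerfLib.res j)

/-- Homology of a complex of free modules in the degree above which it is exact. -/
theorem fpfree_homology_of_contraction (E T : CochainComplex X.Modules ℤ) (τ : T ⟶ E) (m : ℤ)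
    (h1 : IsIso (τ.f (m + 1))) (h2 : IsIso (τ.f (m + 2)))
    (hE : ∀ i, IsFinFree (E.X i)) (h : Homotopy τ 0) :
    FPFree (E.homology m) := by
  haveI := h1
  haveI := h2
  let u := τ.f (m + 1)
  have hcomm : u = T.d (m + 1) (m + 2) ≫ h.hom (m + 2) (m + 1) +
      h.hom (m + 1) m ≫ E.d m (m + 1) := by
    have := h.comm (m + 1)
    rw [dNext_eq h.hom (show (ComplexShape.up ℤ).Rel (m + 1) (m + 2) by simp; omega),
      prevD_eq h.hom (show (ComplexShape.up ℤ).Rel m (m + 1) by simp)] at this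
    simpa using this
  let π : E.X m ⟶ E.X m := 𝟙 _ - E.d m (m + 1) ≫ inv u ≫ h.hom (m + 1) m
  have hu : inv u ≫ T.d (m + 1) (m + 2) ≫ τ.f (m + 2) = E.d (m + 1) (m + 2) := by
    rw [← τ.comm (m + 1) (m + 2), IsIso.inv_hom_id_assoc]
  have hd : E.d m (m + 1) ≫ inv u ≫ T.d (m + 1) (m + 2) = 0 := by
    rw [← cancel_mono (τ.f (m + 2)), Category.assoc, Category.assoc, hu, zero_comp,
      HomologicalComplex.d_comp_d]
  have hπ : π ≫ E.d m (m + 1) = 0 := by
    have e1 : h.hom (m + 1) m ≫ E.d m (m + 1) =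
        u - T.d (m + 1) (m + 2) ≫ h.hom (m + 2) (m + 1) :=
      eq_sub_of_add_eq' hcomm.symm
    simp only [π, Preadditive.sub_comp, Category.id_comp, Category.assoc, e1, Preadditive.comp_sub,
      IsIso.inv_hom_id, Category.comp_id, reassoc_of% hd, zero_comp, sub_zero, sub_self]
  let r := E.liftCycles π (m + 1) (by simp) hπ
  have hir : E.iCycles m ≫ r = 𝟙 _ := by
    rw [← cancel_mono (E.iCycles m), Category.assoc, liftCycles_i, Category.id_comp]
    simp [π]
  exact FPFree.of_iso ((cokernelIsCokernel (E.toCycles (m - 1) m)).coconePointUniqueUpToIso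
      (E.homologyIsCokernel (m - 1) m (by simp)))
    (FPFree.of_retract (E.toCycles (m - 1) m) (E.iCycles m) r hir (hE _) (hE _))

/-- Cohomology at the top degree of a strictly perfect complex exact above it. -/
theorem exists_fpfree_homology {E : CochainComplex X.Modules ℤ} (hE : DCoh.IsStrictlyPerfect E)
    (m : ℤ) (hex : ∀ i, m < i → E.ExactAt i) (x : X) :
    ∃ (W : Scheme.{u}) (j : W ⟶ X) (_ : IsOpenImmersion j) (v : W),
      j v = x ∧ FPFree ((PerfLib.res j).obj (E.homology m)) := by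
  obtain ⟨U, hxU, a, b, hv, hf⟩ : ∃ (U : X.Opens) (_ : x ∈ U) (a b : ℤ),
      (∀ i, i < a ∨ b < i → IsZero (((resC U.ι).obj E).X i)) ∧
        ∀ i, IsFinFree (((resC U.ι).obj E).X i) := by
    obtain ⟨U, hxU, ⟨a, b, hv⟩, hf⟩ := exists_freeBdd_restrict hE x
    let e := fun i => ((HomologicalComplex.eval _ _ i).mapIso ((restrictCxIso U).app E))
    exact ⟨U, hxU, a, b, fun i hi => (hv i hi).of_iso (e i), fun i => isFinFree_of_iso (e i).symm (hf i)⟩
  let E' := (resC U.ι).obj E
  have hT : DCoh.IsStrictlyPerfect (Brutal.trunc E' (m + 1)) := by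
    refine ⟨⟨m + 1, max b (m + 1), fun i hi => ?_⟩, fun i => ?_⟩
    · rcases hi with hi | hi
      · exact Brutal.isZero_X _ _ hi
      · haveI := Brutal.isIso_ι_f E' (m + 1) (show m + 1 ≤ i by omega)
        exact (hv i (Or.inr (by omega))).of_iso (asIso ((Brutal.ι E' (m + 1)).f i))
    · rcases lt_or_ge i (m + 1) with hi | hi
      · exact isFinLocFree_of_isFinFree (isFinFree_of_isZero (Brutal.isZero_X _ _ hi))
      · haveI := Brutal.isIso_ι_f E' (m + 1) hi
        exact isFinLocFree_of_iso (asIso ((Brutal.ι E' (m + 1)).f i)).symm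
          (isFinLocFree_of_isFinFree (hf i))
  obtain ⟨W, k, hk, w, hw, ⟨H⟩⟩ := exists_null_local (Brutal.ι E' (m + 1)) hT (m + 1)
    (fun i hi => Brutal.isZero_X _ _ hi) (fun i hi => exactAt_res U.ι (hex i (by omega))) ⟨x, hxU⟩
  refine ⟨W, k ≫ U.ι, inferInstance, w, by change U.ι (k w) = x; rw [hw]; rfl, ?_⟩
  let E'' := (resC k).obj E'
  have hiso : ∀ i, m + 1 ≤ i → IsIso (((resC k).map (Brutal.ι E' (m + 1))).f i) := fun i hi => by
    haveI := Brutal.isIso_ι_f E' (m + 1) hi
    change IsIso ((PerfLib.res k).map ((Brutal.ι E' (m + 1)).f i))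
    infer_instance
  have hH : FPFree (E''.homology m) :=
    fpfree_homology_of_contraction E'' _ ((resC k).map (Brutal.ι E' (m + 1))) m
      (hiso _ le_rfl) (hiso _ (by omega)) (fun i => isFinFree_res k (hf i)) H
  exact FPFree.of_iso (resHomologyIso k E' m ≪≫ (PerfLib.res k).mapIso (resHomologyIso U.ι E m) ≪≫
    (Scheme.Modules.restrictFunctorComp k U.ι).symm.app _) hH

/-- A quotient of a finitely presented module with free presentation. -/
def FTFree (M : X.Modules) : Prop := ∃ (N : X.Modules) (p : N ⟶ M), Epi p ∧ FPFree N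

theorem isFT_of_local {M : X.Modules}
    (h : ∀ x : X, ∃ (W : Scheme.{u}) (j : W ⟶ X) (_ : IsOpenImmersion j) (v : W),
      j v = x ∧ FTFree ((PerfLib.res j).obj M)) : CohB1.IsFT M := by
  have h' : ∀ x : X, ∃ U : X.Opens, x ∈ U ∧ FTFree (M.restrict U.ι) := fun x => by
    obtain ⟨W, j, hj, v, hv, hM⟩ := h x
    exact exists_opens_of_local (Q := fun {_} N => FTFree N)
      (fun k _ _ ⟨N, p, hp, hN⟩ => ⟨_, (PerfLib.res k).map p, inferInstance, hN.res k⟩)
      (fun e ⟨N, p, hp, hN⟩ => ⟨N, p ≫ e.hom, inferInstance, hN⟩) j hv hM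
  choose U hU hM using h'
  refine QCohLib.isFT_of_cover M U (eq_top_iff.2 fun p _ => Opens.mem_iSup.2 ⟨p, hU p⟩) fun p => ?_
  obtain ⟨N, q, hq, hN⟩ := hM p
  exact QCohLib.isFT_of_epi q hN.isFT

/-- Models at a point compute the top cohomology. -/
theorem exists_model_top {K : DCoh.D X} {m n : ℤ} (hmn : m ≤ n)
    (hK : DCoh.IsPseudoCoherentD m K) (h0 : ∀ i, n < i → IsZero (DCoh.HD K i)) (x : X) :
    ∃ (W : Scheme.{u}) (j : W ⟶ X) (_ : IsOpenImmersion j) (v : W) (N : W.Modules)
      (q : N ⟶ (PerfLib.res j).obj (DCoh.HD K n)),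
      j v = x ∧ FPFree N ∧ Epi q ∧ (m < n → IsIso q) := by
  obtain ⟨V, j, hj, v, hv, E, α, hE, hα⟩ := (isPC_iff m K).1 hK x
  let eK : ∀ i, DCoh.HD ((resD j).obj K) i ≅ (PerfLib.res j).obj (DCoh.HD K i) := fun i => resHDIso j K i
  have hex : ∀ i, n < i → E.ExactAt i := fun i hi => by
    have := hα.1 i (by omega)
    exact exactAt_of_isZero_HD ((((PerfLib.res j).map_isZero (h0 i hi)).of_iso (eK i)).of_iso
      (asIso ((DerivedCategory.homologyFunctor V.Modules i).map α)))
  obtain ⟨W, k, hk, w, hw, hF⟩ := exists_fpfree_homology hE n hex v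
  let q₀ : E.homology n ⟶ (PerfLib.res j).obj (DCoh.HD K n) :=
    ((DerivedCategory.homologyFunctorFactors V.Modules n).app E).inv ≫
      (DerivedCategory.homologyFunctor V.Modules n).map α ≫ (eK n).hom
  have he : Epi q₀ := by
    have := (hα.mono_deg hmn).2
    exact inferInstance
  refine ⟨W, k ≫ j, inferInstance, w, _, (PerfLib.res k).map q₀ ≫
    (Scheme.Modules.restrictFunctorComp k j).inv.app _, by rw [← hv, ← hw]; rfl, hF, inferInstance,
    fun h => ?_⟩
  have := hα.1 n h
  have : IsIso q₀ := inferInstance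
  infer_instance

end Groth.Agent.PerfLib
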